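/-
Glauberman--Sims chains: elements `x i` all of whose intervals of length `k ≤ t` generate groups of order `p^k`.

Main results (namespace `Cfsg.Agent.SimsChain`):
* `Chain.commutator_mem`  : `⁅x 0, x s⁆` for the first noncommuting distance `s` lies in `[t - s, s)`
* `Chain.two_mul_le`      : `2 t ≤ 3 s`
-/
import Mathlib
import Cfsg.Agent.EqLemmas

set_option autoImplicit false
set_option linter.unusedSectionVars false

open scoped commutatorElement

namespace Cfsg.Agent.SimsChain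

variable {G : Type*} [Group G]

/-- The subgroup generated by `x i, …, x (i + k - 1)`. -/
def W (x : ℤ → G) (i : ℤ) (k : ℕ) : Subgroup G :=
  Subgroup.closure {y | ∃ j : ℤ, i ≤ j ∧ j < i + k ∧ x j = y}

theorem mem_W {x : ℤ → G} {i j : ℤ} {k : ℕ} (h1 : i ≤ j) (h2 : j < i + k) : x j ∈ W x i k :=
  Subgroup.subset_closure ⟨j, h1, h2, rfl⟩

theorem W_mono {x : ℤ → G} {i i' : ℤ} {k k' : ℕ} (h1 : i' ≤ i) (h2 : i + k ≤ i' + k') : W x i k ≤ W x i' k' := by
  refine Subgroup.closure_mono ?_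
  rintro _ ⟨j, hj1, hj2, rfl⟩
  exact ⟨j, by omega, by omega, rfl⟩

theorem commute_W {x : ℤ → G} {i : ℤ} {k : ℕ} {y : G}
    (h : ∀ j : ℤ, i ≤ j → j < i + k → Commute y (x j)) {z : G} (hz : z ∈ W x i k) : Commute y z := by
  have hle : W x i k ≤ Subgroup.centralizer {y} := by
    rw [W, Subgroup.closure_le]
    rintro _ ⟨j, hj1, hj2, rfl⟩
    exact Subgroup.mem_centralizer_singleton_iff.mpr (h j hj1 hj2).eq.symm
  exact (Subgroup.mem_centralizer_singleton_iff.mp (hle hz)).symm

/-- Intervals of length `k ≤ t` have order `p ^ k`; commuting depends only on the distance. -/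
structure Chain (p t : ℕ) (x : ℤ → G) : Prop where
  hp : p.Prime
  card : ∀ (i : ℤ) (k : ℕ), k ≤ t → Nat.card (W x i k) = p ^ k
  shift : ∀ i d : ℤ, Commute (x i) (x (i + d)) ↔ Commute (x 0) (x d)

namespace Chain

variable [Finite G] {p t : ℕ} {x : ℤ → G} (h : Chain p t x)

include h

theorem normal_le {i i' : ℤ} {k : ℕ} (hk : k + 1 ≤ t) (hi : i' = i ∨ i' = i + 1) :
    ((W x i' k).subgroupOf (W x i (k + 1))).Normal := by
  have := Fact.mk h.hp
  have hle : W x i' k ≤ W x i (k + 1) := W_mono (by omega) (by omega)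
  have hpg : IsPGroup p (W x i (k + 1)) := IsPGroup.of_card (h.card i (k + 1) hk)
  have hidx : ((W x i' k).subgroupOf (W x i (k + 1))).index = p := by
    have := ((W x i' k).subgroupOf (W x i (k + 1))).index_mul_card
    rw [Nat.card_congr (Subgroup.subgroupOfEquivOfLe hle).toEquiv, h.card i (k + 1) hk, h.card i' k (by omega),
      pow_succ'] at this
    exact Nat.eq_of_mul_eq_mul_right (pow_pos h.hp.pos k) this
  refine Subgroup.normal_of_index_eq_minFac_card ?_
  rw [hidx, h.card i (k + 1) hk, h.hp.pow_minFac (Nat.succ_ne_zero k)]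

theorem conj_mem {i i' : ℤ} {k : ℕ} (hk : k + 1 ≤ t) (hi : i' = i ∨ i' = i + 1) {g z : G}
    (hg : g ∈ W x i (k + 1)) (hz : z ∈ W x i' k) : g * z * g⁻¹ ∈ W x i' k := by
  have hle : W x i' k ≤ W x i (k + 1) := W_mono (by omega) (by omega)
  exact (h.normal_le hk hi).conj_mem ⟨z, hle hz⟩ hz ⟨g, hg⟩

theorem not_mem_left {i : ℤ} {k : ℕ} (hk : k + 1 ≤ t) : x i ∉ W x (i + 1) k := by
  intro hm
  have hle : W x i (k + 1) ≤ W x (i + 1) k := by
    rw [W, Subgroup.closure_le]
    rintro _ ⟨j, hj1, hj2, rfl⟩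
    rcases eq_or_lt_of_le hj1 with rfl | hlt
    · exact hm
    · exact mem_W (by omega) (by omega)
  have := Nat.le_of_dvd Nat.card_pos (Subgroup.card_dvd_of_le hle)
  rw [h.card i (k + 1) hk, h.card (i + 1) k (by omega)] at this
  exact absurd this (not_le.mpr (Nat.pow_lt_pow_right h.hp.one_lt (Nat.lt_succ_self k)))

theorem inf_eq {i : ℤ} {k m : ℕ} (hk : k + 1 ≤ t) (hkm : k ≤ m) (hm : m + 1 ≤ t) :
    W x i (k + 1) ⊓ W x (i + 1) m = W x (i + 1) k := by
  set L := W x i (k + 1) ⊓ W x (i + 1) m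
  have hle : W x (i + 1) k ≤ L := le_inf (W_mono (by omega) (by omega)) (W_mono le_rfl (by omega))
  refine (Subgroup.eq_of_le_of_card_ge hle ?_).symm
  have hd : Nat.card L ∣ p ^ (k + 1) := h.card i (k + 1) hk ▸ Subgroup.card_dvd_of_le inf_le_left
  obtain ⟨e, he, hL⟩ := (Nat.dvd_prime_pow h.hp).mp hd
  rw [hL, h.card (i + 1) k (by omega)]
  refine Nat.pow_le_pow_right h.hp.pos ?_
  by_contra hlt
  have htop : W x i (k + 1) ≤ L := (Subgroup.eq_of_le_of_card_ge inf_le_left (by
    rw [hL, h.card i (k + 1) hk, show e = k + 1 by omega])).ge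
  exact h.not_mem_left hm (inf_le_right (α := Subgroup G) (htop (mem_W le_rfl (by omega))))

theorem inf_eq_bot {k : ℕ} : ∀ {i : ℤ} {l : ℕ}, k + l ≤ t → W x i k ⊓ W x (i + k) l = ⊥ := by
  induction k with
  | zero =>
    intro i l _
    rw [← le_bot_iff]
    refine inf_le_left.trans ?_
    rw [W, Subgroup.closure_le]
    rintro _ ⟨j, hj1, hj2, rfl⟩
    omega
  | succ k ih =>
    intro i l hl
    have h1 : W x i (k + 1) ⊓ W x (i + (k + 1 : ℕ)) l ≤ W x (i + 1) k := by
      rw [← h.inf_eq (m := k + l) (i := i) (by omega) (by omega) (by omega)]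
      exact inf_le_inf_left _ (W_mono (by omega) (by omega))
    rw [← le_bot_iff, ← ih (i := i + 1) (l := l) (by omega),
      show i + 1 + (k : ℤ) = i + (k + 1 : ℕ) by push_cast; ring]
    exact le_inf h1 inf_le_right

theorem comm_mem {i : ℤ} {d : ℕ} (hd : d + 2 ≤ t) : ⁅x i, x (i + (d + 1 : ℕ))⁆ ∈ W x (i + 1) d := by
  rw [← h.inf_eq (m := d + 1) (i := i) (by omega) (by omega) (by omega), commutatorElement_def]
  refine Subgroup.mem_inf.mpr ⟨?_, ?_⟩
  · have hcj : x (i + (d + 1 : ℕ)) * (x i)⁻¹ * (x (i + (d + 1 : ℕ)))⁻¹ ∈ W x i (d + 1) :=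
      h.conj_mem (i := i) (i' := i) (k := d + 1) (by omega) (Or.inl rfl) (mem_W (by omega) (by push_cast; omega))
        (inv_mem (mem_W le_rfl (by omega)))
    simpa only [mul_assoc] using mul_mem (mem_W le_rfl (by omega) : x i ∈ W x i (d + 1)) hcj
  · exact mul_mem (h.conj_mem (i := i) (i' := i + 1) (k := d + 1) (by omega) (Or.inr rfl)
      (mem_W le_rfl (by omega)) (mem_W (by omega) (by push_cast; omega)))
      (inv_mem (mem_W (by omega) (by push_cast; omega)))

/-- The commutator at the first noncommuting distance avoids the left part of its interval. -/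
theorem commutator_mem {s : ℕ} (hs : ¬ Commute (x 0) (x s)) (hmin : ∀ d : ℕ, d < s → Commute (x 0) (x d))
    (hst : s < t) :
    ∃ a : ℕ, a < s ∧ t ≤ a + s ∧ ⁅x 0, x s⁆ ∈ W x a (s - a) := by
  classical
  have hs1 : 1 ≤ s := Nat.pos_of_ne_zero fun e => hs (by subst e; exact Commute.refl _)
  have hnear : ∀ i j : ℤ, (i - j).natAbs < s → Commute (x i) (x j) := by
    intro i j hij
    rcases le_total i j with hle | hle
    · rw [show j = i + ((i - j).natAbs : ℤ) by omega, h.shift]
      exact hmin _ hij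
    · rw [show i = j + ((i - j).natAbs : ℤ) by omega]
      exact ((h.shift _ _).mpr (hmin _ hij)).symm
  set c := ⁅x 0, x s⁆ with hcdef
  have hc1 : c ≠ 1 := fun e => hs (commutatorElement_eq_one_iff_mul_comm.mp e)
  have hc : c ∈ W x ((1 : ℕ) : ℤ) (s - 1) := by
    have := h.comm_mem (i := 0) (d := s - 1) (by omega)
    rw [show (0 : ℤ) + ((s - 1 + 1 : ℕ) : ℤ) = (s : ℤ) by omega, zero_add] at this
    exact this
  set A := (Finset.range (s + 1)).filter fun a : ℕ => c ∈ W x (a : ℤ) (s - a)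
  have hA : A.Nonempty := ⟨1, Finset.mem_filter.mpr ⟨Finset.mem_range.mpr (by omega), hc⟩⟩
  obtain ⟨a, haA, hamax⟩ := Finset.exists_max_image A id hA
  obtain ⟨ha, hca⟩ := Finset.mem_filter.mp haA
  rw [Finset.mem_range] at ha
  have has : a < s := by
    by_contra hge
    refine hc1 (Subgroup.mem_bot.mp ?_)
    rw [show a = s by omega, Nat.sub_self] at hca
    have : W x (s : ℤ) 0 ≤ ⊥ := by
      rw [W, Subgroup.closure_le]
      rintro _ ⟨j, hj1, hj2, rfl⟩
      omega
    exact this hca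
  refine ⟨a, has, ?_, hca⟩
  by_contra hlt
  push Not at hlt
  have ha1 : 1 ≤ a := hamax 1 (Finset.mem_filter.mpr ⟨Finset.mem_range.mpr (by omega), hc⟩)
  set y := x ((a + s : ℕ) : ℤ) with hy
  set d := ⁅y, x 0⁆ with hddef
  have hd : d ∈ W x 1 (a + s - 1) := by
    have := h.comm_mem (i := 0) (d := a + s - 1) (by omega)
    rw [show (0 : ℤ) + ((a + s - 1 + 1 : ℕ) : ℤ) = ((a + s : ℕ) : ℤ) by omega, zero_add] at this
    rw [hddef, ← commutatorElement_inv]
    exact inv_mem this
  have hys : Commute y (x s) := hnear _ _ (by omega)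
  have hds : Commute d (x s) := (commute_W (y := x s) (fun j hj1 hj2 => hnear _ _ (by omega)) hd).symm
  have hdc : Commute d c := by
    refine (commute_W (y := c) (fun j hj1 hj2 => ?_) hd).symm
    exact (commute_W (y := x j) (fun l hl1 hl2 => hnear _ _ (by omega)) hca).symm
  have hyc : Commute y c := by
    have key : y * c * y⁻¹ = c := by
      have e0 : y * x 0 * y⁻¹ = d * x 0 := by rw [hddef, commutatorElement_def]; group
      have e1 : y * x s * y⁻¹ = x s := by rw [hys.eq, mul_inv_cancel_right]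
      calc y * c * y⁻¹ = (y * x 0 * y⁻¹) * (y * x s * y⁻¹) * (y * x 0 * y⁻¹)⁻¹ * (y * x s * y⁻¹)⁻¹ := by
            rw [hcdef, commutatorElement_def]; group
        _ = (d * x 0) * x s * (d * x 0)⁻¹ * (x s)⁻¹ := by rw [e0, e1]
        _ = d * c * (x s * d⁻¹ * (x s)⁻¹) := by rw [hcdef, commutatorElement_def]; group
        _ = d * c * d⁻¹ := by rw [(hds.inv_left).eq.symm]; group
        _ = c := by rw [hdc.eq, mul_inv_cancel_right]
    exact mul_inv_eq_iff_eq_mul.mp key
  set H := W x ((a + 1 : ℕ) : ℤ) (s - a - 1)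
  have hyH : ∀ z ∈ H, Commute y z := fun z hz =>
    commute_W (fun j hj1 hj2 => hnear _ _ (by omega)) hz
  -- the extreme component
  have hxa : x a ∈ W x (a : ℤ) (s - a) := mem_W le_rfl (by omega)
  have hle : W x (a : ℤ) (s - a) ≤ Subgroup.zpowers (x a) ⊔ H := by
    rw [W, Subgroup.closure_le]
    rintro _ ⟨j, hj1, hj2, rfl⟩
    rcases eq_or_lt_of_le hj1 with rfl | hlt'
    · exact Subgroup.mem_sup_left (Subgroup.mem_zpowers _)
    · exact Subgroup.mem_sup_right (mem_W (by omega) (by omega))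
  have hN : Subgroup.zpowers (x a) ≤ Subgroup.normalizer (H : Set G) := by
    rw [Subgroup.zpowers_le, Subgroup.mem_normalizer_iff_map_conj_eq]
    refine Subgroup.eq_of_le_of_card_ge ?_ (le_of_eq (Subgroup.card_map_of_injective (MulAut.conj _).injective).symm)
    rintro _ ⟨z, hz, rfl⟩
    exact h.conj_mem (i := (a : ℤ)) (k := s - a - 1) (by omega) (Or.inr (by push_cast; ring))
      (W_mono le_rfl (by omega) hxa) hz
  have hmem : c ∈ ((Subgroup.zpowers (x a) ⊔ H : Subgroup G) : Set G) := hle hca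
  rw [Subgroup.coe_mul_of_left_le_normalizer_right _ _ hN] at hmem
  obtain ⟨u, ⟨e, he⟩, w, hw, huw⟩ := hmem
  dsimp only at huw he
  have hyu : Commute y u := by
    rw [eq_mul_inv_of_mul_eq huw]
    exact hyc.mul_right (hyH w hw).inv_right
  have hu1 : u ≠ 1 := by
    rintro rfl
    rw [one_mul] at huw
    have hm : a + 1 ∈ A := Finset.mem_filter.mpr ⟨Finset.mem_range.mpr (by omega), by
      rw [← huw, show s - (a + 1) = s - a - 1 by omega]; exact hw⟩
    exact absurd (hamax _ hm) (by simp)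
  have hone : Subgroup.zpowers (x a) = W x (a : ℤ) 1 := by
    refine le_antisymm (Subgroup.zpowers_le.mpr (mem_W le_rfl (by omega))) ?_
    rw [W, Subgroup.closure_le]
    rintro _ ⟨j, hj1, hj2, rfl⟩
    rw [show j = (a : ℤ) by omega]
    exact Subgroup.mem_zpowers _
  have hz : Subgroup.zpowers u = Subgroup.zpowers (x a) := by
    refine Subgroup.eq_of_le_of_card_ge (Subgroup.zpowers_le.mpr ⟨e, he⟩) ?_
    rw [hone, h.card _ 1 (by omega), pow_one]
    have hd' : Nat.card (Subgroup.zpowers u) ∣ p := by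
      have := Subgroup.card_dvd_of_le (Subgroup.zpowers_le.mpr (show u ∈ Subgroup.zpowers (x (a : ℤ)) from ⟨e, he⟩))
      rwa [hone, h.card _ 1 (by omega), pow_one] at this
    rcases (Nat.dvd_prime h.hp).mp hd' with e1 | e1
    · exact absurd (orderOf_eq_one_iff.mp (by rwa [← Nat.card_zpowers])) hu1
    · rw [e1]
  obtain ⟨e', he'⟩ : x a ∈ Subgroup.zpowers u := hz ▸ Subgroup.mem_zpowers _
  have hbad : Commute y (x a) := he' ▸ hyu.zpow_right e'
  exact hs ((h.shift (a : ℤ) (s : ℤ)).mp (by rw [← Nat.cast_add]; exact hbad.symm))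

theorem mirror (s : ℤ) : Chain p t (fun i => x (s - i)) := by
  refine ⟨h.hp, fun i k hk => ?_, fun i d => ?_⟩
  · have : W (fun i => x (s - i)) i k = W x (s - i - k + 1) k := by
      unfold W
      congr 1
      ext y
      constructor
      · rintro ⟨j, hj1, hj2, rfl⟩
        exact ⟨s - j, by omega, by omega, rfl⟩
      · rintro ⟨j, hj1, hj2, rfl⟩
        exact ⟨s - j, by omega, by omega, by simp⟩
    rw [this, h.card _ k hk]
  · rw [sub_zero]
    have e1 := h.shift (s - (i + d)) d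
    have e2 := h.shift (s - d) d
    rw [show s - (i + d) + d = s - i by ring] at e1
    rw [show s - d + d = s by ring] at e2
    exact ⟨fun hh => (e2.mpr (e1.mp hh.symm)).symm, fun hh => (e1.mpr (e2.mp hh.symm)).symm⟩

theorem two_mul_le {s : ℕ} (hs : ¬ Commute (x 0) (x s)) (hmin : ∀ d : ℕ, d < s → Commute (x 0) (x d))
    (hst : s < t) : 2 * t ≤ 3 * s := by
  by_contra hlt
  push Not at hlt
  obtain ⟨a, has, hat, hca⟩ := h.commutator_mem hs hmin hst
  obtain ⟨b, hbs, hbt, hcb⟩ := (h.mirror (s : ℤ)).commutator_mem (s := s)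
    (fun hh => hs (by simpa using hh.symm))
    (fun d hd => by
      have e := h.shift ((s : ℤ) - d) (d : ℤ)
      rw [sub_add_cancel] at e
      simpa using (e.mpr (hmin d hd)).symm)
    hst
  simp only [sub_self, sub_zero] at hcb
  have hW : W (fun i => x ((s : ℤ) - i)) (b : ℤ) (s - b) ≤ W x ((1 : ℕ) : ℤ) (s - b) := by
    rw [W, Subgroup.closure_le]
    rintro _ ⟨j, hj1, hj2, rfl⟩
    exact mem_W (by omega) (by omega)
  have hc1 : ⁅x 0, x s⁆ ∈ W x ((1 : ℕ) : ℤ) (s - b) := by
    rw [← commutatorElement_inv]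
    exact inv_mem (hW hcb)
  have hc2 : ⁅x 0, x s⁆ ∈ W x (((1 : ℕ) : ℤ) + ((s - b : ℕ) : ℤ)) (s - 1 - (s - b)) :=
    W_mono (by omega) (by omega) hca
  have hmem := h.inf_eq_bot (k := s - b) (i := ((1 : ℕ) : ℤ)) (l := s - 1 - (s - b)) (by omega) ▸
    Subgroup.mem_inf.mpr ⟨hc1, hc2⟩
  exact hs (commutatorElement_eq_one_iff_mul_comm.mp (Subgroup.mem_bot.mp hmem))

end Chain

end Cfsg.Agent.SimsChain
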