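/-
The Sims chain attached to a subgroup `P` and an automorphism `σ` with `P ⊓ σ P` normal of prime index in `σ P`.

Main results (namespace `Cfsg.Agent.SimsChain`):
* `exists_chain`
* `Chain.commutator_mem_both`
-/
import Cfsg.Agent.Lib.SimsChain.Basic
import Cfsg.Agent.EqLemmas

set_option autoImplicit false
set_option linter.unusedSectionVars false

open scoped Pointwise

namespace Cfsg.Agent.SimsChain

variable {G : Type*} [Group G]

/-- The intersection of `P, σ⁻¹ P, …, σ⁻ᵏ P`. -/
def core (σ : MulAut G) (P : Subgroup G) (k : ℕ) : Subgroup G where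
  carrier := {x | ∀ l : ℕ, l ≤ k → (σ ^ l) x ∈ P}
  mul_mem' := fun {x y} hx hy l hl => by rw [map_mul]; exact P.mul_mem (hx l hl) (hy l hl)
  one_mem' := fun l _ => by rw [map_one]; exact P.one_mem
  inv_mem' := fun {x} hx l hl => by rw [map_inv]; exact P.inv_mem (hx l hl)

theorem mem_core {σ : MulAut G} {P : Subgroup G} {k : ℕ} {x : G} :
    x ∈ core σ P k ↔ ∀ l : ℕ, l ≤ k → (σ ^ l) x ∈ P := Iff.rfl

theorem core_step [Finite G] {σ : MulAut G} {P : Subgroup G} {p : ℕ}
    (hN : ((P ⊓ σ • P).subgroupOf (σ • P)).Normal) (hidx : (P ⊓ σ • P).relIndex (σ • P) = p) (k : ℕ) :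
    ((core σ P (k + 1)).subgroupOf (core σ P k)).Normal ∧ (core σ P (k + 1)).relIndex (core σ P k) ∣ p := by
  have hmem : ∀ x : core σ P k, (σ ^ (k + 1)) (x : G) ∈ σ • P := fun x => by
    rw [pow_succ', MulAut.mul_apply]
    exact Subgroup.smul_mem_pointwise_smul _ _ _ (x.2 k le_rfl)
  let f : core σ P k →* (↥(σ • P) ⧸ (P ⊓ σ • P).subgroupOf (σ • P)) :=
    (QuotientGroup.mk' _).comp
      { toFun := fun x => ⟨(σ ^ (k + 1)) (x : G), hmem x⟩
        map_one' := Subtype.ext (map_one _)
        map_mul' := fun x y => Subtype.ext (map_mul _ _ _) }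
  have hker : f.ker = (core σ P (k + 1)).subgroupOf (core σ P k) := by
    ext x
    rw [MonoidHom.mem_ker, MonoidHom.comp_apply, QuotientGroup.mk'_apply, QuotientGroup.eq_one_iff,
      Subgroup.mem_subgroupOf, Subgroup.mem_subgroupOf, Subgroup.mem_inf, mem_core]
    refine ⟨fun h l hl => ?_, fun h => ⟨h (k + 1) le_rfl, hmem x⟩⟩
    rcases Nat.lt_or_ge l (k + 1) with h' | h'
    · exact x.2 l (by omega)
    · rw [show l = k + 1 by omega]; exact h.1
  refine ⟨hker ▸ inferInstance, ?_⟩
  rw [Subgroup.relIndex, ← hker, Subgroup.index_ker, ← hidx, Subgroup.relIndex, Subgroup.index]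
  exact Subgroup.card_subgroup_dvd_card _

/-- A chain generating `P`, unless `σ` normalizes a nontrivial normal subgroup of `P`. -/
theorem exists_chain [Finite G] {σ : MulAut G} {P : Subgroup G} {p : ℕ} (hp : p.Prime)
    (hN : ((P ⊓ σ • P).subgroupOf (σ • P)).Normal) (hidx : (P ⊓ σ • P).relIndex (σ • P) = p)
    (h1 : ∀ N : Subgroup G, N ≤ P → P ≤ Subgroup.normalizer (N : Set G) → σ • N = N → N = ⊥) :
    ∃ (t : ℕ) (x : ℤ → G), 1 ≤ t ∧ Chain p t x ∧ Nat.card P = p ^ t ∧ W x 0 t = P ∧
      ∀ i : ℤ, σ (x i) = x (i + 1) := by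
  classical
  have hstep := core_step hN hidx
  have hmono : ∀ k, core σ P (k + 1) ≤ core σ P k := fun k x hx l hl => hx l (by omega)
  have hex : ∃ k, core σ P (k + 1) = core σ P k := by
    by_contra hc
    push Not at hc
    have : ∀ k, Nat.card (core σ P k) + k ≤ Nat.card (core σ P 0) := by
      intro k
      induction k with
      | zero => rfl
      | succ k ih =>
        have hle := Nat.le_of_dvd Nat.card_pos (Subgroup.card_dvd_of_le (hmono k))
        have hne : Nat.card (core σ P (k + 1)) ≠ Nat.card (core σ P k) :=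
          fun e => hc k (Subgroup.eq_of_le_of_card_ge (hmono k) e.ge)
        omega
    have h' := this (Nat.card (core σ P 0))
    have : 0 < Nat.card (core σ P (Nat.card (core σ P 0))) := Nat.card_pos
    omega
  set t := Nat.find hex with ht
  have htspec : core σ P (t + 1) = core σ P t := Nat.find_spec hex
  have hidxp : ∀ k, k < t → (core σ P (k + 1)).relIndex (core σ P k) = p := fun k hk =>
    ((Nat.dvd_prime hp).mp (hstep k).2).resolve_left fun e =>
      Nat.find_min hex hk (le_antisymm (hmono k) (Subgroup.relIndex_eq_one.mp e))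
  have hcard : ∀ j, j ≤ t → Nat.card (core σ P (t - j)) = Nat.card (core σ P t) * p ^ j := by
    intro j hj
    induction j with
    | zero => simp
    | succ j ih =>
      have h' := hidxp (t - (j + 1)) (by omega)
      rw [show t - (j + 1) + 1 = t - j by omega] at h'
      have hle := hmono (t - (j + 1))
      rw [show t - (j + 1) + 1 = t - j by omega] at hle
      have := ((core σ P (t - j)).subgroupOf (core σ P (t - (j + 1)))).index_mul_card
      rw [Nat.card_congr (Subgroup.subgroupOfEquivOfLe hle).toEquiv, ih (by omega)] at this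
      rw [← this, show ((core σ P (t - j)).subgroupOf (core σ P (t - (j + 1)))).index = p from h', pow_succ']
      ring
  have h0 : core σ P 0 = P := by
    ext x
    exact ⟨fun h => by simpa using h 0 le_rfl, fun h l hl => by simpa [Nat.le_zero.mp hl] using h⟩
  -- the stable term is invariant
  have hσN : σ • core σ P t = core σ P t := by
    refine Subgroup.eq_of_le_of_card_ge ?_ (le_of_eq (Nat.card_congr (Subgroup.equivSMul σ _).toEquiv))
    rintro _ ⟨x, hx, rfl⟩ l hl
    show (σ ^ l) (σ x) ∈ P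
    rw [← MulAut.mul_apply, ← pow_succ]
    exact (htspec.ge hx) (l + 1) (by omega)
  have ht1 : 1 ≤ t := by
    by_contra hlt
    obtain ht0 : t = 0 := by omega
    have hle : σ • P ≤ P ⊓ σ • P := by
      refine le_inf ?_ le_rfl
      rintro _ ⟨x, hx, rfl⟩
      have hx' : x ∈ core σ P (t + 1) := by rw [htspec, ht0, h0]; exact hx
      show σ x ∈ P
      simpa using hx' 1 (by omega)
    rw [Subgroup.relIndex_eq_one.mpr hle] at hidx
    exact hp.ne_one hidx.symm
  obtain ⟨x₀, hx₀, hx₀'⟩ : ∃ x ∈ core σ P (t - 1), x ∉ core σ P t := by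
    by_contra hc
    push Not at hc
    refine Nat.find_min hex (show t - 1 < t by omega) (le_antisymm (hmono _) ?_)
    rw [show t - 1 + 1 = t by omega]
    exact hc
  set x : ℤ → G := fun i => (σ ^ i) x₀ with hxdef
  have hxnat : ∀ j : ℕ, x j = (σ ^ j) x₀ := fun j => by simp [hxdef]
  have hgen : ∀ k, k ≤ t → core σ P (t - k) ≤ core σ P t ⊔ W x 0 k := by
    intro k hk
    induction k with
    | zero => simp
    | succ k ih =>
      set E := core σ P (t - (k + 1))
      set F := core σ P (t - k)
      have hFE : F ≤ E := by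
        have h' := hmono (t - (k + 1))
        rwa [show t - (k + 1) + 1 = t - k by omega] at h'
      have hxE : x k ∈ E := fun l hl => by
        rw [hxnat, ← MulAut.mul_apply, ← pow_add]
        exact hx₀ _ (by omega)
      have hxF : x k ∉ F := fun h' => hx₀' fun l hl => by
        rcases Nat.lt_or_ge l t with h'' | h''
        · exact hx₀ l (by omega)
        · have h3 := h' (t - k) le_rfl
          rwa [hxnat, ← MulAut.mul_apply, ← pow_add, show t - k + k = l by omega] at h3
      set L := F ⊔ Subgroup.zpowers (x (k : ℤ))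
      have hLE : L ≤ E := sup_le hFE (Subgroup.zpowers_le.mpr hxE)
      have hLeq : L = E := by
        have hd : L.relIndex E ∣ p := by
          have h' := Subgroup.relIndex_mul_relIndex F L E le_sup_left hLE
          have h'' := hidxp (t - (k + 1)) (by omega)
          rw [show t - (k + 1) + 1 = t - k by omega] at h''
          exact Dvd.intro_left _ (h'.trans h'')
        rcases (Nat.dvd_prime hp).mp hd with e | e
        · exact le_antisymm hLE (Subgroup.relIndex_eq_one.mp e)
        · exfalso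
          have h' := Subgroup.relIndex_mul_relIndex F L E le_sup_left hLE
          have h'' := hidxp (t - (k + 1)) (by omega)
          rw [show t - (k + 1) + 1 = t - k by omega] at h''
          rw [e, h''] at h'
          have : F.relIndex L = 1 := Nat.eq_of_mul_eq_mul_right hp.pos (by rw [h', one_mul])
          exact hxF (Subgroup.relIndex_eq_one.mp this (Subgroup.mem_sup_right (Subgroup.mem_zpowers _)))
      rw [← hLeq]
      refine sup_le ((ih (by omega)).trans (sup_le_sup_left (W_mono le_rfl (by omega)) _)) ?_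
      rw [Subgroup.zpowers_le]
      exact Subgroup.mem_sup_right (mem_W (by omega) (by omega))
  have hzN : ∀ i : ℤ, σ ^ i • core σ P t = core σ P t := fun i =>
    MulAction.mem_stabilizer_iff.mp (Subgroup.zpow_mem _ (MulAction.mem_stabilizer_iff.mpr hσN) i)
  have hzmem : ∀ (i : ℤ) (z : G), z ∈ core σ P t → (σ ^ i) z ∈ core σ P t := fun i z hz =>
    (hzN i).le (Subgroup.smul_mem_pointwise_smul z (σ ^ i) _ hz)
  have hnorm : ∀ i : ℤ, ∀ z ∈ core σ P t, x i * z * (x i)⁻¹ ∈ core σ P t := by
    intro i z hz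
    have hz' := hzmem (-i) z hz
    have h' := (hstep (t - 1)).1.conj_mem ⟨(σ ^ (-i)) z, (fun l hl => hz' l (by omega))⟩
      (show (σ ^ (-i)) z ∈ core σ P (t - 1 + 1) from fun l hl => hz' l (by omega)) ⟨x₀, hx₀⟩
    have h'' : x₀ * (σ ^ (-i)) z * x₀⁻¹ ∈ core σ P t := fun l hl => h' l (by omega)
    have h3 := hzmem i _ h''
    rwa [map_mul, map_mul, map_inv, ← MulAut.mul_apply, ← zpow_add, add_neg_cancel, zpow_zero,
      MulAut.one_apply] at h3
  have hPle : P ≤ Subgroup.normalizer (core σ P t : Set G) := by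
    have h' := hgen t le_rfl
    rw [Nat.sub_self, h0] at h'
    refine h'.trans (sup_le Subgroup.le_normalizer ?_)
    rw [W, Subgroup.closure_le]
    rintro _ ⟨j, -, -, rfl⟩
    rw [SetLike.mem_coe, Subgroup.mem_normalizer_iff_map_conj_eq]
    refine Subgroup.eq_of_le_of_card_ge ?_ (le_of_eq (Subgroup.card_map_of_injective (MulAut.conj _).injective).symm)
    rintro _ ⟨z, hz, rfl⟩
    exact hnorm j z hz
  have hNP : core σ P t ≤ P := fun z hz => by simpa using hz 0 (Nat.zero_le _)
  have hbot : core σ P t = ⊥ := by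
    exact h1 _ hNP hPle hσN
  have hbotcard : ∀ j, j ≤ t → Nat.card (core σ P (t - j)) = p ^ j := fun j hj => by
    rw [hcard j hj, hbot, Subgroup.card_bot, one_mul]
  have hPcard : Nat.card P = p ^ t := by rw [← hbotcard t le_rfl, Nat.sub_self, h0]
  have hW0 : ∀ k, k ≤ t → W x 0 k = core σ P (t - k) := by
    intro k hk
    refine le_antisymm ?_ ((hgen k hk).trans (by rw [hbot, bot_sup_eq]))
    rw [W, Subgroup.closure_le]
    rintro _ ⟨j, hj1, hj2, rfl⟩ l hl
    obtain ⟨j', rfl⟩ := Int.eq_ofNat_of_zero_le hj1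
    rw [hxnat, ← MulAut.mul_apply, ← pow_add]
    exact hx₀ _ (by omega)
  have hWi : ∀ (i : ℤ) (k : ℕ), W x i k = σ ^ i • W x 0 k := by
    intro i k
    have hsh : ∀ j : ℤ, x (i + j) = (σ ^ i) (x j) := fun j => by
      show (σ ^ (i + j)) x₀ = (σ ^ i) ((σ ^ j) x₀)
      rw [zpow_add, MulAut.mul_apply]
    refine le_antisymm ?_ ?_
    · rw [W, Subgroup.closure_le]
      rintro _ ⟨j, hj1, hj2, rfl⟩
      rw [show j = i + (j - i) by ring, hsh]
      exact Subgroup.smul_mem_pointwise_smul _ _ _ (mem_W (by omega) (by omega))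
    · rw [Subgroup.pointwise_smul_subset_iff, W, Subgroup.closure_le]
      rintro _ ⟨j, hj1, hj2, rfl⟩
      rw [SetLike.mem_coe, Subgroup.mem_inv_pointwise_smul_iff, MulAut.smul_def, ← hsh]
      exact mem_W (by omega) (by omega)
  have hch : Chain p t x := by
    refine ⟨hp, fun i k hk => ?_, fun i d => ?_⟩
    · rw [hWi, ← Nat.card_congr (Subgroup.equivSMul (σ ^ i) (W x 0 k)).toEquiv, hW0 k hk, hbotcard k hk]
    · show Commute ((σ ^ i) x₀) ((σ ^ (i + d)) x₀) ↔ Commute ((σ ^ (0 : ℤ)) x₀) ((σ ^ d) x₀)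
      rw [zpow_add, MulAut.mul_apply, zpow_zero, MulAut.one_apply, commute_map_iff (σ ^ i).injective]
  refine ⟨t, x, ht1, hch, hPcard, by rw [hW0 t le_rfl, Nat.sub_self, h0], fun i => ?_⟩
  show σ ((σ ^ i) x₀) = (σ ^ (i + 1)) x₀
  rw [add_comm, zpow_one_add, MulAut.mul_apply]

open scoped commutatorElement

/-- The commutator at the first noncommuting distance lies in the middle, from both sides. -/
theorem Chain.commutator_mem_both [Finite G] {p t : ℕ} {x : ℤ → G} (h : Chain p t x) {s : ℕ}
    (hs : ¬ Commute (x 0) (x s)) (hmin : ∀ d : ℕ, d < s → Commute (x 0) (x d)) (hst : s < t) :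
    ⁅x 0, x s⁆ ∈ W x ((t - s : ℕ) : ℤ) (2 * s - t) ∧ ⁅x 0, x s⁆ ∈ W x 1 (2 * s - t) := by
  obtain ⟨a, has, hat, hca⟩ := h.commutator_mem hs hmin hst
  obtain ⟨b, hbs, hbt, hcb⟩ := (h.mirror (s : ℤ)).commutator_mem (s := s)
    (fun hh => hs (by simpa using hh.symm))
    (fun d hd => by
      have e := h.shift ((s : ℤ) - d) (d : ℤ)
      rw [sub_add_cancel] at e
      simpa using (e.mpr (hmin d hd)).symm)
    hst
  simp only [sub_self, sub_zero] at hcb
  refine ⟨W_mono (by omega) (by omega) hca, ?_⟩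
  have hW : W (fun i => x ((s : ℤ) - i)) (b : ℤ) (s - b) ≤ W x 1 (2 * s - t) := by
    rw [W, Subgroup.closure_le]
    rintro _ ⟨j, hj1, hj2, rfl⟩
    exact mem_W (by omega) (by omega)
  rw [← commutatorElement_inv]
  exact inv_mem (hW hcb)

end Cfsg.Agent.SimsChain
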