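/-
The chain of a group with a dihedral quotient modulo its `2`-core and an outer `2`-automorphism of a
Sylow `2`-subgroup.

Main results (namespace `Cfsg.Agent.SimsChain`):
* `Setup.cases` : `(t, s)` is `(2, -)`, `(3, 2)` or `(4, 3)`, with the commutators in the last cases
-/
import Cfsg.Agent.Lib.SimsChain.Construct
import Cfsg.Agent.EqLemmas

set_option autoImplicit false
set_option linter.unusedSectionVars false

open scoped commutatorElement

namespace Cfsg.Agent.SimsChain

variable {G : Type*} [Group G] [Finite G]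

structure Setup (H P Q : Subgroup G) (h y : G) (t : ℕ) (x : ℤ → G) : Prop where
  chain : Chain 2 t x
  ht : 2 ≤ t
  hW : W x 0 t = P
  hQ : W x 1 (t - 1) = Q
  gen : W x 0 (t + 1) = H
  hQH : H ≤ Subgroup.normalizer (Q : Set G)
  hh : h ∈ H
  shift : ∀ i : ℤ, h * (y * x i * y⁻¹) * h⁻¹ = x (i + 1)
  hy : ∀ z ∈ P, y * z * y⁻¹ ∈ P
  hy2 : y ^ 2 ∈ P ⊔ Subgroup.centralizer (P : Set G)
  noncomm : ¬ ∀ u ∈ H, ∀ v ∈ H, Commute u v

theorem Chain.orderOf_eq {p t : ℕ} {x : ℤ → G} (h : Chain p t x) (ht : 1 ≤ t) (i : ℤ) : orderOf (x i) = p := by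
  have h1 := h.card i 1 ht
  have hW : W x i 1 = Subgroup.zpowers (x i) := by
    refine le_antisymm ?_ (Subgroup.zpowers_le.mpr (mem_W le_rfl (by omega)))
    rw [W, Subgroup.closure_le]
    rintro _ ⟨j, hj1, hj2, rfl⟩
    rw [show j = i by omega]
    exact Subgroup.mem_zpowers _
  rw [hW, Nat.card_zpowers, pow_one] at h1
  exact h1

theorem Chain.not_mem_right {p t : ℕ} {x : ℤ → G} (h : Chain p t x) {i : ℤ} {k : ℕ} (hk : k + 1 ≤ t) :
    x (i + k) ∉ W x i k := by
  intro hm
  have hle : W x i (k + 1) ≤ W x i k := by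
    rw [W, Subgroup.closure_le]
    rintro _ ⟨j, hj1, hj2, rfl⟩
    rcases lt_or_eq_of_le (show j ≤ i + k by push_cast at hj2; omega) with hlt | rfl
    · exact mem_W hj1 hlt
    · exact hm
  have := Nat.le_of_dvd Nat.card_pos (Subgroup.card_dvd_of_le hle)
  rw [h.card i (k + 1) hk, h.card i k (by omega)] at this
  exact absurd this (not_le.mpr (Nat.pow_lt_pow_right h.hp.one_lt (Nat.lt_succ_self k)))

/-- An element of an interval commuting with `u` misses the last generator if the latter does not commute. -/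
theorem Chain.mem_of_commute {p t : ℕ} {x : ℤ → G} (h : Chain p t x) {i : ℤ} {k : ℕ} (hk : k + 1 ≤ t) {u z : G}
    (hu : ∀ j : ℤ, i ≤ j → j < i + k → Commute u (x j)) (hnc : ¬ Commute u (x (i + k)))
    (hz : z ∈ W x i (k + 1)) (huz : Commute u z) : z ∈ W x i k := by
  by_contra hzn
  refine hnc ?_
  set L := W x i k ⊔ Subgroup.zpowers z
  have hL : L ≤ W x i (k + 1) := sup_le (W_mono le_rfl (by push_cast; omega)) (Subgroup.zpowers_le.mpr hz)
  have hcent : L ≤ Subgroup.centralizer {u} := by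
    refine sup_le (fun w hw => Subgroup.mem_centralizer_singleton_iff.mpr (commute_W hu hw).eq.symm) ?_
    rw [Subgroup.zpowers_le]
    exact Subgroup.mem_centralizer_singleton_iff.mpr huz.eq.symm
  have htop : L = W x i (k + 1) := by
    refine Subgroup.eq_of_le_of_card_ge hL ?_
    obtain ⟨e, he, hLe⟩ := (Nat.dvd_prime_pow h.hp).mp (h.card i (k + 1) hk ▸ Subgroup.card_dvd_of_le hL)
    rw [hLe, h.card i (k + 1) hk]
    refine Nat.pow_le_pow_right h.hp.pos ?_
    by_contra hlt
    refine hzn ?_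
    have : W x i k = L := Subgroup.eq_of_le_of_card_ge le_sup_left (by
      rw [hLe, h.card i k (by omega)]; exact Nat.pow_le_pow_right h.hp.pos (by omega))
    rw [this]
    exact Subgroup.mem_sup_right (Subgroup.mem_zpowers z)
  exact (Subgroup.mem_centralizer_singleton_iff.mp (hcent (htop ▸ mem_W (by omega) (by push_cast; omega)))).symm

theorem mem_pair {a b z : G} (hab : Commute a b) (ha : a * a = 1) (hb : b * b = 1)
    (hz : z ∈ Subgroup.closure {a, b}) : z = 1 ∨ z = a ∨ z = b ∨ z = a * b := by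
  induction hz using Subgroup.closure_induction with
  | mem w hw =>
    rcases hw with rfl | hw
    · exact Or.inr (Or.inl rfl)
    · rw [Set.mem_singleton_iff] at hw; exact Or.inr (Or.inr (Or.inl hw))
  | one => exact Or.inl rfl
  | mul u v _ _ hu hv =>
    have e1 : ∀ w, a * (a * w) = w := fun w => by rw [← mul_assoc, ha, one_mul]
    have e2 : b * a = a * b := hab.eq.symm
    have e3 : b * (a * b) = a := by rw [← mul_assoc, e2, mul_assoc, hb, mul_one]
    rcases hu with rfl | rfl | rfl | rfl <;> rcases hv with rfl | rfl | rfl | rfl <;>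
      simp only [one_mul, mul_one, mul_assoc, ha, hb, e1, e2, e3, true_or, or_true]
  | inv u _ hu =>
    rcases hu with rfl | rfl | rfl | rfl
    · exact Or.inl inv_one
    · exact Or.inr (Or.inl (inv_eq_of_mul_eq_one_right ha))
    · exact Or.inr (Or.inr (Or.inl (inv_eq_of_mul_eq_one_right hb)))
    · refine Or.inr (Or.inr (Or.inr (inv_eq_of_mul_eq_one_right ?_)))
      rw [mul_assoc, ← mul_assoc b, hab.eq.symm, mul_assoc a, hb, mul_one, ha]

namespace Setup

variable {H P Q : Subgroup G} {h y : G} {t : ℕ} {x : ℤ → G} (S : Setup H P Q h y t x)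

include S

theorem sq (i : ℤ) : x i * x i = 1 := by
  have h2 := pow_orderOf_eq_one (x i)
  rwa [S.chain.orderOf_eq (by have := S.ht; omega), pow_two] at h2

theorem ne_one (i : ℤ) : x i ≠ 1 := fun e => by
  have h2 := S.chain.orderOf_eq (by have := S.ht; omega) i
  rw [e, orderOf_one] at h2
  omega

theorem W_one (i : ℤ) {z : G} (hz : z ∈ W x i 1) : z = 1 ∨ z = x i := by
  have hW : W x i 1 ≤ Subgroup.closure {x i, x i} := by
    rw [W, Subgroup.closure_le]
    rintro _ ⟨j, hj1, hj2, rfl⟩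
    rw [show j = i by omega]
    exact Subgroup.subset_closure (Or.inl rfl)
  rcases mem_pair (Commute.refl _) (S.sq i) (S.sq i) (hW hz) with e | e | e | e
  · exact Or.inl e
  · exact Or.inr e
  · exact Or.inr e
  · exact Or.inl (e.trans (S.sq i))

theorem shift_mem {i : ℤ} {k : ℕ} {z : G} (hz : z ∈ W x i k) : h * (y * z * y⁻¹) * h⁻¹ ∈ W x (i + 1) k := by
  have hle : W x i k ≤ (W x (i + 1) k).comap (MulAut.conj (h * y)).toMonoidHom := by
    rw [W, Subgroup.closure_le]
    rintro _ ⟨j, hj1, hj2, rfl⟩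
    show h * y * x j * (h * y)⁻¹ ∈ W x (i + 1) k
    rw [show h * y * x j * (h * y)⁻¹ = h * (y * x j * y⁻¹) * h⁻¹ by group, S.shift]
    exact mem_W (by omega) (by omega)
  have h' : h * y * z * (h * y)⁻¹ ∈ W x (i + 1) k := hle hz
  rwa [show h * y * z * (h * y)⁻¹ = h * (y * z * y⁻¹) * h⁻¹ by group] at h'

theorem comm_shift {i j : ℤ} {a : ℤ} {k : ℕ} (hc : ⁅x i, x j⁆ ∈ W x a k) :
    ⁅x (i + 1), x (j + 1)⁆ ∈ W x (a + 1) k := by
  have e : h * (y * ⁅x i, x j⁆ * y⁻¹) * h⁻¹ = ⁅x (i + 1), x (j + 1)⁆ := by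
    rw [← S.shift i, ← S.shift j, commutatorElement_def, commutatorElement_def]; group
  exact e ▸ S.shift_mem hc

theorem x_mem_H {j : ℤ} (h0 : 0 ≤ j) (h1 : j ≤ t) : x j ∈ H :=
  S.gen ▸ mem_W h0 (by push_cast; omega)

theorem x_mem_P {j : ℤ} (h0 : 0 ≤ j) (h1 : j < t) : x j ∈ P :=
  S.hW ▸ mem_W h0 (by omega)

theorem x_mem_Q {j : ℤ} (h0 : 1 ≤ j) (h1 : j < t) : x j ∈ Q :=
  S.hQ ▸ mem_W h0 (by have := S.ht; omega)

theorem central_H {z : G} (hz : ∀ j : ℤ, 0 ≤ j → j ≤ t → Commute z (x j)) {u : G} (hu : u ∈ H) : Commute z u :=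
  commute_W (fun j hj1 hj2 => hz j hj1 (by push_cast at hj2; omega)) (S.gen.symm ▸ hu)

/-- `θ²` fixes the centre of `P`. -/
theorem sq_fix {z : G} (hz : z ∈ P) (hc : ∀ j : ℤ, 0 ≤ j → j < t → Commute z (x j)) :
    y * (y * z * y⁻¹) * y⁻¹ = z := by
  have hle : P ⊔ Subgroup.centralizer (P : Set G) ≤ Subgroup.centralizer {z} := by
    refine sup_le (fun u hu => Subgroup.mem_centralizer_singleton_iff.mpr ?_)
      (fun u hu => Subgroup.mem_centralizer_singleton_iff.mpr (Subgroup.mem_centralizer_iff.mp hu z hz).symm)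
    exact (commute_W (fun j hj1 hj2 => hc j hj1 (by omega)) (S.hW.symm ▸ hu)).eq.symm
  have h2 : y ^ 2 * z = z * y ^ 2 := Subgroup.mem_centralizer_singleton_iff.mp (hle S.hy2)
  calc y * (y * z * y⁻¹) * y⁻¹ = (y ^ 2 * z) * (y ^ 2)⁻¹ := by simp only [pow_two, mul_inv_rev, mul_assoc]
    _ = z := by rw [h2, mul_inv_cancel_right]

/-- `θ` maps `Q` to `⟨x 0, …, x (t - 2)⟩`. -/
theorem conj_Q {z : G} (hz : z ∈ Q) : y * z * y⁻¹ ∈ W x 0 (t - 1) := by
  have ht := S.ht
  set A := W x 0 (t - 1)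
  -- `θ` maps `A` into `Q`
  have hA : ∀ w ∈ A, y * w * y⁻¹ ∈ Q := fun w hw => by
    have h' := S.shift_mem hw
    rw [zero_add, S.hQ] at h'
    exact (Subgroup.mem_normalizer_iff.mp (S.hQH S.hh) _).mpr h'
  -- hence onto
  have hcard : Nat.card Q ≤ Nat.card A := by
    rw [← S.hQ, S.chain.card _ _ (by omega), S.chain.card _ _ (by omega)]
  have himg : A.map (MulAut.conj y).toMonoidHom = Q := by
    refine Subgroup.eq_of_le_of_card_ge ?_ (hcard.trans_eq (Subgroup.card_map_of_injective (MulAut.conj y).injective).symm)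
    rintro _ ⟨w, hw, rfl⟩
    exact hA w hw
  obtain ⟨w, hw, hwz⟩ : z ∈ A.map (MulAut.conj y).toMonoidHom := himg.symm ▸ hz
  have hwz' : y * w * y⁻¹ = z := hwz
  have hn : P ⊔ Subgroup.centralizer (P : Set G) ≤ Subgroup.normalizer (A : Set G) := by
    have hAP : A ≤ P := S.hW ▸ W_mono le_rfl (by omega)
    refine sup_le (fun u hu => ?_) (fun u hu => ?_) <;> rw [Subgroup.mem_normalizer_iff_map_conj_eq] <;>
      refine Subgroup.eq_of_le_of_card_ge ?_ (le_of_eq (Subgroup.card_map_of_injective (MulAut.conj u).injective).symm)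
    · rintro _ ⟨v, hv, rfl⟩
      have hu' : u ∈ W x 0 (t - 1 + 1) := by rw [show t - 1 + 1 = t by omega, S.hW]; exact hu
      exact S.chain.conj_mem (by omega) (Or.inl rfl) hu' hv
    · rintro _ ⟨v, hv, rfl⟩
      show u * v * u⁻¹ ∈ A
      rwa [← Subgroup.mem_centralizer_iff.mp hu v (hAP hv), mul_inv_cancel_right]
  rw [← hwz', show y * (y * w * y⁻¹) * y⁻¹ = y ^ 2 * w * (y ^ 2)⁻¹ by simp only [pow_two, mul_inv_rev, mul_assoc]]
  exact (Subgroup.mem_normalizer_iff.mp (hn S.hy2) w).mp hw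

/-- No two neighbours among the `x j` are central in `H`. -/
theorem not_two_central {j : ℤ} (h0 : 1 ≤ j) (h1 : j + 1 < t)
    (hc : ∀ i : ℤ, 0 ≤ i → i ≤ t → Commute (x j) (x i) ∧ Commute (x (j + 1)) (x i)) : False := by
  have ht := S.ht
  have fix : ∀ z, (∀ i : ℤ, 0 ≤ i → i ≤ t → Commute z (x i)) → h⁻¹ * z * h = z := fun z hz => by
    rw [mul_assoc, (S.central_H hz S.hh).eq, inv_mul_cancel_left]
  have e1 : y * x (j - 1) * y⁻¹ = x j := by
    have h' := S.shift (j - 1)
    rw [sub_add_cancel] at h'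
    rw [← fix (x j) (fun i a b => (hc i a b).1), ← h']
    group
  have e2 : y * x j * y⁻¹ = x (j + 1) := by
    rw [← fix (x (j + 1)) (fun i a b => (hc i a b).2), ← S.shift j]
    group
  have e3 := S.sq_fix (S.x_mem_P (show 0 ≤ j + 1 by omega) h1) (fun i a b => (hc i a b.le).2)
  have e4 : y * (y * x (j - 1) * y⁻¹) * y⁻¹ = y * (y * x (j + 1) * y⁻¹) * y⁻¹ := by rw [e1, e2, e3]
  have e5 : x (j - 1) = x (j + 1) := mul_left_cancel (mul_right_cancel (mul_left_cancel (mul_right_cancel e4)))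
  exact S.chain.not_mem_left (i := j - 1) (k := 2) (by omega) (e5 ▸ mem_W (by omega) (by omega))

/-- The possible shapes. -/
theorem cases : t = 2 ∨ (t = 3 ∧ ⁅x 0, x 2⁆ = x 1 ∧ ⁅x 1, x 3⁆ = x 2) ∨
    (t = 4 ∧ ⁅x 0, x 3⁆ = x 1 * x 2 ∧ ⁅x 1, x 4⁆ = x 2 * x 3 ∧ ∀ d : ℕ, d < 3 → Commute (x 0) (x d)) := by
  classical
  have ht := S.ht
  have hex : ∃ d : ℕ, ¬ Commute (x 0) (x d) ∧ d ≤ t := by
    by_contra hc
    push Not at hc
    have hall : ∀ i j : ℤ, 0 ≤ i → i ≤ t → 0 ≤ j → j ≤ t → Commute (x i) (x j) := by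
      intro i j hi0 hi1 hj0 hj1
      rcases le_total i j with hle | hle
      · have h' := (S.chain.shift i (j - i)).mpr (by
          obtain ⟨d, hd⟩ := Int.eq_ofNat_of_zero_le (show 0 ≤ j - i by omega)
          rw [hd]
          exact not_not.mp fun hn => absurd (hc d hn) (by omega))
        rwa [add_sub_cancel] at h'
      · have h' := (S.chain.shift j (i - j)).mpr (by
          obtain ⟨d, hd⟩ := Int.eq_ofNat_of_zero_le (show 0 ≤ i - j by omega)
          rw [hd]
          exact not_not.mp fun hn => absurd (hc d hn) (by omega))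
        rw [add_sub_cancel] at h'
        exact h'.symm
    refine S.noncomm fun u hu v hv => S.central_H (fun j hj0 hj1 => ?_) hv
    exact (S.central_H (fun i hi0 hi1 => hall j i hj0 hj1 hi0 hi1) hu).symm
  set s := Nat.find hex
  obtain ⟨hs, hst⟩ : ¬ Commute (x 0) (x s) ∧ s ≤ t := Nat.find_spec hex
  have hmin : ∀ d : ℕ, d < s → Commute (x 0) (x d) := fun d hd =>
    not_not.mp fun hn => Nat.find_min hex hd ⟨hn, by omega⟩
  have hnear : ∀ i j : ℤ, (i - j).natAbs < s → Commute (x i) (x j) := by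
    intro i j hij
    rcases le_total i j with hle | hle
    · rw [show j = i + ((i - j).natAbs : ℤ) by omega, S.chain.shift]
      exact hmin _ hij
    · rw [show i = j + ((i - j).natAbs : ℤ) by omega]
      exact ((S.chain.shift _ _).mpr (hmin _ hij)).symm
  have hs2 : 2 ≤ s := by
    by_contra hlt
    rcases (show s = 0 ∨ s = 1 by omega) with e | e
    · exact hs (by rw [e]; exact Commute.refl _)
    · have : Fact (Nat.Prime 2) := ⟨Nat.prime_two⟩
      have h01 := IsPGroup.commutative_of_card_eq_prime_sq (S.chain.card 0 2 ht)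
        ⟨x 0, mem_W le_rfl (by omega)⟩ ⟨x 1, mem_W (by omega) (by omega)⟩
      exact hs (by rw [e]; exact congrArg Subtype.val h01)
  have hcount : 2 * s ≤ t + 2 := by
    by_contra hgt
    refine S.not_two_central (j := ((s : ℤ) - 2)) (by omega) (by omega) fun i hi0 hi1 => ⟨?_, ?_⟩
    · exact hnear _ _ (by omega)
    · exact hnear _ _ (by omega)
  rcases eq_or_lt_of_le hst with heq | hlt
  · left; omega
  have h23 := S.chain.two_mul_le hs hmin hlt
  obtain ⟨hc1, hc2⟩ := S.chain.commutator_mem_both hs hmin hlt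
  have hc0 : ⁅x 0, x s⁆ ≠ 1 := fun e => hs (commutatorElement_eq_one_iff_mul_comm.mp e)
  rcases (show (t = 3 ∧ s = 2) ∨ (t = 4 ∧ s = 3) ∨ (t = 6 ∧ s = 4) by omega) with ⟨e1, e2⟩ | ⟨e1, e2⟩ | ⟨e1, e2⟩
  · right; left
    rw [e2, e1] at hc2
    rw [e2] at hc0
    have h1 : ⁅x 0, x 2⁆ = x 1 := (S.W_one 1 hc2).resolve_left hc0
    refine ⟨e1, h1, ?_⟩
    have h2 := S.comm_shift (i := 0) (j := 2) (a := 1) (k := 1) (h1 ▸ mem_W le_rfl (by omega))
    rw [show (0 : ℤ) + 1 = 1 by norm_num, show (2 : ℤ) + 1 = 3 by norm_num, show (1 : ℤ) + 1 = 2 by norm_num] at h2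
    refine (S.W_one 2 h2).resolve_left fun e => ?_
    exact hs (e2 ▸ ((S.chain.shift 1 2).mp (commutatorElement_eq_one_iff_mul_comm.mp e)))
  · right; right
    rw [e2, e1] at hc2
    rw [e2] at hc0 hs hmin
    subst e1
    push_cast at hc0 hs hc2
    -- `x 2` is central, `θ x 1 = x 2` and `θ x 2 = x 1`
    have hz2 : ∀ u ∈ H, Commute (x 2) u := fun u hu => S.central_H (fun j hj0 hj1 => hnear _ _ (by omega)) hu
    have e12 : y * x 1 * y⁻¹ = x 2 := by
      have h' := S.shift 1
      rw [show (1 : ℤ) + 1 = 2 by norm_num] at h'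
      have h'' : h⁻¹ * x 2 * h = x 2 := by rw [mul_assoc, (hz2 h S.hh).eq, inv_mul_cancel_left]
      rw [← h'', ← h']; group
    have e21 : y * x 2 * y⁻¹ = x 1 := by
      rw [← e12]
      exact S.sq_fix (S.x_mem_P (by omega) (by omega)) fun j hj0 hj1 => hnear _ _ (by omega)
    have hx3 : h * x 1 * h⁻¹ = x 3 := by
      have h' := S.shift 2
      rwa [e21, show (2 : ℤ) + 1 = 3 by norm_num] at h'
    have hinv : ∀ A : Subgroup G, (∀ j : ℤ, 0 ≤ j → j ≤ 4 → ∀ z ∈ A, x j * z * (x j)⁻¹ ∈ A) →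
        ∀ z ∈ A, h * z * h⁻¹ ∈ A := by
      intro A hA z hz
      have hle : H ≤ Subgroup.normalizer (A : Set G) := by
        rw [← S.gen, W, Subgroup.closure_le]
        rintro _ ⟨j, hj1, hj2, rfl⟩
        rw [SetLike.mem_coe, Subgroup.mem_normalizer_iff_map_conj_eq]
        refine Subgroup.eq_of_le_of_card_ge ?_ (le_of_eq (Subgroup.card_map_of_injective (MulAut.conj _).injective).symm)
        rintro _ ⟨w, hw, rfl⟩
        exact hA j hj1 (by push_cast at hj2; omega) w hw
      exact (Subgroup.mem_normalizer_iff.mp (hle S.hh) z).mp hz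
    -- conjugation through the generators of an interval of length two
    have hgen2 : ∀ (i : ℤ) (g : G), (∀ l : ℤ, i ≤ l → l < i + 2 → g * x l * g⁻¹ ∈ W x i 2) →
        ∀ z ∈ W x i 2, g * z * g⁻¹ ∈ W x i 2 := by
      intro i g hg z hz
      have hle : W x i 2 ≤ (W x i 2).comap (MulAut.conj g).toMonoidHom := by
        conv_lhs => rw [W]
        rw [Subgroup.closure_le]
        rintro _ ⟨l, hl1, hl2, rfl⟩
        exact hg l hl1 hl2
      exact hle hz
    set c := ⁅x 0, x 3⁆ with hcdef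
    have hc' : ⁅x 1, x 4⁆ = h * (y * c * y⁻¹) * h⁻¹ := by
      rw [hcdef, ← (show h * (y * x 0 * y⁻¹) * h⁻¹ = x 1 from S.shift 0),
        ← (show h * (y * x 3 * y⁻¹) * h⁻¹ = x 4 from S.shift 3), commutatorElement_def, commutatorElement_def]
      group
    have hx1c : Commute (x 1) (x 2) := hnear _ _ (by omega)
    have hcl : W x 1 2 ≤ Subgroup.closure {x 1, x 2} := by
      rw [W, Subgroup.closure_le]
      rintro _ ⟨j, hj1, hj2, rfl⟩
      rcases (show j = 1 ∨ j = 2 by omega) with rfl | rfl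
      · exact Subgroup.subset_closure (Or.inl rfl)
      · exact Subgroup.subset_closure (Or.inr rfl)
    rcases mem_pair hx1c (S.sq 1) (S.sq 2) (hcl hc2) with e | e | e | e
    · exact absurd e hc0
    · -- `H` would normalise `⟨x 1, x 2⟩`
      exfalso
      rw [e, e12, (hz2 h S.hh).eq.symm, mul_inv_cancel_right] at hc'
      have h1 : x 1 ∈ W x 1 2 := mem_W le_rfl (by omega)
      have hmem := hinv (W x 1 2) (fun j hj0 hj1 => hgen2 1 (x j) fun l hl1 hl2 => by
        by_cases hjl : (j - l).natAbs < 3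
        · rw [(hnear j l (by omega)).eq, mul_inv_cancel_right]; exact mem_W hl1 (by omega)
        · rcases (show j = 4 ∧ l = 1 by omega) with ⟨rfl, rfl⟩
          rw [show x 4 * x 1 * (x 4)⁻¹ = ⁅x 4, x 1⁆ * x 1 by rw [commutatorElement_def]; group,
            ← commutatorElement_inv, hc']
          exact mul_mem (inv_mem (mem_W (by omega) (by omega))) h1) _ h1
      rw [hx3] at hmem
      exact S.chain.not_mem_right (i := 1) (k := 2) (by omega) (by simpa using hmem)
    · -- `H` would normalise `⟨x 2, x 3⟩`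
      exfalso
      have h3 : x 3 ∈ W x 2 2 := mem_W (by omega) (by omega)
      have hmem : x 1 ∈ W x 2 2 := by
        have hn := hinv (W x 2 2) (fun j hj0 hj1 => hgen2 2 (x j) fun l hl1 hl2 => by
          by_cases hjl : (j - l).natAbs < 3
          · rw [(hnear j l (by omega)).eq, mul_inv_cancel_right]; exact mem_W hl1 (by omega)
          · rcases (show j = 0 ∧ l = 3 by omega) with ⟨rfl, rfl⟩
            rw [show x 0 * x 3 * (x 0)⁻¹ = ⁅x 0, x 3⁆ * x 3 by rw [commutatorElement_def]; group, ← hcdef, e]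
            exact mul_mem (mem_W (by omega) (by omega)) h3)
        have hle : (W x 2 2).map (MulAut.conj h).toMonoidHom = W x 2 2 := by
          refine Subgroup.eq_of_le_of_card_ge ?_ (le_of_eq (Subgroup.card_map_of_injective (MulAut.conj h).injective).symm)
          rintro _ ⟨w, hw, rfl⟩
          exact hn w hw
        obtain ⟨w, hw, hwe⟩ : x 3 ∈ (W x 2 2).map (MulAut.conj h).toMonoidHom := hle.symm ▸ h3
        have : w = x 1 := mul_left_cancel (mul_right_cancel ((show h * w * h⁻¹ = x 3 from hwe).trans hx3.symm))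
        rwa [← this]
      exact S.chain.not_mem_left (i := 1) (k := 2) (by omega) (by simpa using hmem)
    · refine ⟨rfl, e, ?_, hmin⟩
      rw [hc', e, show y * (x 1 * x 2) * y⁻¹ = (y * x 1 * y⁻¹) * (y * x 2 * y⁻¹) by group, e12, e21,
        ← conj_mul, hx3, (hz2 h S.hh).eq.symm, mul_inv_cancel_right]
  · -- `t = 6` is impossible
    exfalso
    subst e1
    rw [e2] at hc1 hc2 hmin hs
    push_cast at hs hc1 hc2
    have hc : ⁅x 0, x 4⁆ ∈ W x 2 1 := by
      have he := S.chain.inf_eq (i := 1) (k := 1) (m := 2) (by omega) (by omega) (by omega)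
      rw [show (1 : ℤ) + 1 = 2 by norm_num] at he
      rw [← he]
      exact ⟨hc2, hc1⟩
    have hc26 : ⁅x 2, x 6⁆ ∈ W x 4 1 := by
      have h1 := S.comm_shift hc
      have h2 := S.comm_shift h1
      simpa [add_assoc] using h2
    set d := ⁅x 0, x 5⁆ with hddef
    have hd : d ∈ W x 1 4 := by
      have := S.chain.comm_mem (i := 0) (d := 4) (by omega)
      simpa using this
    have hdd : Commute d (x 0) := by
      have hd2 : d * d = 1 := by
        have hcm : ∀ u ∈ W x 1 4, ∀ v ∈ W x 1 4, Commute u v := fun u hu v hv =>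
          commute_W (fun j hj1 hj2 => (commute_W (fun i hi1 hi2 => hnear j i (by omega)) hu).symm) hv
        suffices ∀ u ∈ W x 1 4, u * u = 1 from this d hd
        intro u hu
        unfold W at hu
        induction hu using Subgroup.closure_induction with
        | mem w hw => obtain ⟨j, -, -, rfl⟩ := hw; exact S.sq j
        | one => exact one_mul 1
        | mul u v hu hv iu iv =>
          rw [show u * v * (u * v) = u * (v * u) * v by group, (hcm v hv u hu).eq,
            show u * (u * v) * v = (u * u) * (v * v) by group, iu, iv, one_mul]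
        | inv u _ iu => rw [← mul_inv_rev, iu, inv_one]
      have e0 := inv_eq_of_mul_eq_one_right (S.sq 0)
      have e5 := inv_eq_of_mul_eq_one_right (S.sq 5)
      have hdinv : x 0 * d * (x 0)⁻¹ = d⁻¹ := by
        rw [hddef, commutatorElement_def]
        simp only [mul_inv_rev, inv_inv, e0, e5]
        rw [show x 0 * (x 0 * x 5 * x 0 * x 5) * x 0 = (x 0 * x 0) * (x 5 * x 0 * x 5 * x 0) by group, S.sq 0,
          one_mul]
        group
      rw [inv_eq_of_mul_eq_one_right hd2] at hdinv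
      exact (mul_inv_eq_iff_eq_mul.mp hdinv).symm
    have hd3 : d ∈ W x 1 3 := S.chain.mem_of_commute (i := 1) (k := 3) (by omega)
      (fun j hj1 hj2 => hnear _ _ (by omega)) (by
        rw [show (1 : ℤ) + (3 : ℕ) = 4 by norm_num]; exact hs) hd hdd.symm
    have hd16 : ⁅x 1, x 6⁆ ∈ W x 2 3 := by
      have h1 := S.comm_shift (hddef ▸ hd3)
      simpa using h1
    have hnorm : H ≤ Subgroup.normalizer (W x 1 4 : Set G) := by
      rw [← S.gen, W, Subgroup.closure_le]
      rintro _ ⟨j, hj1, hj2, rfl⟩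
      rw [SetLike.mem_coe, Subgroup.mem_normalizer_iff_map_conj_eq]
      refine Subgroup.eq_of_le_of_card_ge ?_ (le_of_eq (Subgroup.card_map_of_injective (MulAut.conj _).injective).symm)
      rintro _ ⟨w, hw, rfl⟩
      show x j * w * (x j)⁻¹ ∈ W x 1 4
      push_cast at hj2
      rcases (show j = 0 ∨ (1 ≤ j ∧ j ≤ 5) ∨ j = 6 by omega) with rfl | hj | rfl
      · exact S.chain.conj_mem (i := 0) (k := 4) (by omega) (Or.inr rfl) (mem_W le_rfl (by omega)) hw
      · exact S.chain.conj_mem (i := 1) (k := 4) (by omega) (Or.inl rfl) (mem_W hj.1 (by omega)) hw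
      · have hle : W x 1 4 ≤ (W x 1 4).comap (MulAut.conj (x 6)).toMonoidHom := by
          conv_lhs => rw [W]
          rw [Subgroup.closure_le]
          rintro _ ⟨l, hl1, hl2, rfl⟩
          show x 6 * x l * (x 6)⁻¹ ∈ W x 1 4
          rw [show x 6 * x l * (x 6)⁻¹ = (⁅x l, x 6⁆)⁻¹ * x l by rw [commutatorElement_def]; group]
          refine mul_mem (inv_mem ?_) (mem_W hl1 (by omega))
          rcases (show l = 1 ∨ l = 2 ∨ 3 ≤ l by omega) with rfl | rfl | hl
          · exact W_mono (by omega) (by omega) hd16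
          · exact W_mono (by omega) (by omega) hc26
          · rw [commutatorElement_eq_one_iff_mul_comm.mpr (hnear _ _ (by omega)).eq]; exact one_mem _
        exact hle hw
    -- so `θ` cannot shift `x 4`
    have hx4 : x 4 ∈ Q := S.x_mem_Q (by omega) (by omega)
    have hA : y * x 4 * y⁻¹ ∈ W x 0 5 := S.conj_Q hx4
    have hB : y * x 4 * y⁻¹ ∈ W x 1 5 := by
      have h' := S.shift 4
      rw [show (4 : ℤ) + 1 = 5 by norm_num] at h'
      rw [show W x 1 5 = Q from S.hQ]
      exact (Subgroup.mem_normalizer_iff.mp (S.hQH S.hh) _).mpr (h' ▸ S.x_mem_Q (by omega) (by omega))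
    have hmid : y * x 4 * y⁻¹ ∈ W x 1 4 := by
      have he := S.chain.inf_eq (i := 0) (k := 4) (m := 5) (by omega) (by omega) (by omega)
      rw [zero_add] at he
      rw [← he]
      exact ⟨hA, hB⟩
    have h5 := (Subgroup.mem_normalizer_iff.mp (hnorm S.hh) _).mp hmid
    rw [S.shift 4] at h5
    exact S.chain.not_mem_right (i := 1) (k := 4) (by omega) h5

end Setup

end Cfsg.Agent.SimsChain
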