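/-
Recognition of `V₄`, `S₄` and `S₄ × 2`.

Main results (namespace `Cfsg.Agent.SimsChain`):
* `mulEquiv_klein`, `mulEquiv_permFour_of_klein`, `exists_index_two_not_mem`, `mulEquiv_prod`
-/
import Cfsg.Agent.Lib.PSL2.Groups
import Cfsg.Agent.EqLemmas

set_option autoImplicit false
set_option linter.unusedSectionVars false

namespace Cfsg.Agent.SimsChain

theorem isKleinFour_of_sq {R : Type*} [Group R] [Finite R] (hR : Nat.card R = 4) (hsq : ∀ g : R, g * g = 1) :
    IsKleinFour R := by
  refine ⟨hR, Nat.dvd_antisymm (Monoid.exponent_dvd_of_forall_pow_eq_one fun g => by rw [pow_two, hsq]) ?_⟩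
  have : Nontrivial R := Finite.one_lt_card_iff_nontrivial.mp (by omega)
  obtain ⟨g, hg⟩ := exists_ne (1 : R)
  have ho : orderOf g = 2 := orderOf_eq_prime (by rw [pow_two, hsq]) hg
  exact ho ▸ Monoid.order_dvd_exponent g

theorem mulEquiv_klein {R : Type*} [Group R] [Finite R] (hR : Nat.card R = 4) (hsq : ∀ g : R, g * g = 1) :
    Nonempty (R ≃* Multiplicative (ZMod 2) × Multiplicative (ZMod 2)) := by
  have := isKleinFour_of_sq hR hsq
  have := isKleinFour_of_sq (R := Multiplicative (ZMod 2) × Multiplicative (ZMod 2))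
    (by rw [Nat.card_prod, Nat.card_congr Multiplicative.toAdd, Nat.card_zmod]) (by decide)
  exact IsKleinFour.nonempty_mulEquiv

/-- A group of order `24` with a self-centralising normal four-group is `S₄`. -/
theorem mulEquiv_permFour_of_klein {R : Type*} [Group R] [Finite R] (hR : Nat.card R = 24)
    (V : Subgroup R) [V.Normal] (hV : Nat.card V = 4) (hsq : ∀ v ∈ V, v * v = 1)
    (hself : ∀ g : R, (∀ v ∈ V, g * v = v * g) → g ∈ V) :
    Nonempty (R ≃* Equiv.Perm (Fin 4)) := by
  classical
  have := Fact.mk Nat.prime_three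
  have hidx : Nat.card (R ⧸ V) = 6 := by
    have h := V.index_mul_card
    rw [hV, hR] at h
    rw [← Subgroup.index_eq_card]
    omega
  -- `R ⧸ V` permutes the three involutions
  let T := {v : V // v ≠ 1}
  have hT : Nat.card T = 3 := by
    have := Fintype.ofFinite V
    rw [Nat.card_eq_fintype_card, Fintype.card_subtype_compl, Fintype.card_subtype_eq, ← Nat.card_eq_fintype_card, hV]
  let eT : T ≃ Fin 3 := Finite.equivFinOfCardEq hT
  let act : R →* Equiv.Perm T :=
    { toFun := fun g => Equiv.Perm.subtypePerm ((MulAut.conjNormal g : V ≃* V).toEquiv : Equiv.Perm V)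
        (fun v => (MulAut.conjNormal g : V ≃* V).map_ne_one_iff)
      map_one' := Equiv.ext fun v => Subtype.ext (Subtype.ext (by simp))
      map_mul' := fun g g' => Equiv.ext fun v => Subtype.ext (Subtype.ext (by simp [mul_assoc])) }
  have hact : ∀ (g : R) (v : T), ((act g v : V) : R) = g * ((v : V) : R) * g⁻¹ := fun g v => rfl
  have hker : ∀ g : R, act g = 1 ↔ g ∈ V := by
    refine fun g => ⟨fun h => hself g fun v hv => ?_, fun hg => Equiv.ext fun v => Subtype.ext (Subtype.ext ?_)⟩
    · by_cases hv1 : v = 1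
      · rw [hv1, mul_one, one_mul]
      · have := hact g ⟨⟨v, hv⟩, fun e => hv1 (congrArg Subtype.val e)⟩
        rw [h] at this
        exact mul_inv_eq_iff_eq_mul.mp this.symm
    · rw [hact]
      show g * _ * g⁻¹ = ((v : V) : R)
      have h := hsq _ (mul_mem hg (v : V).2)
      rw [mul_eq_one_iff_eq_inv, mul_inv_rev, inv_eq_of_mul_eq_one_right (hsq _ (v : V).2),
        inv_eq_of_mul_eq_one_right (hsq g hg)] at h
      rw [h, mul_inv_cancel_right]
  let act3 : R →* Equiv.Perm (Fin 3) := eT.permCongrHom.toMonoidHom.comp act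
  have hker3 : ∀ g : R, act3 g = 1 ↔ g ∈ V := fun g => by
    rw [← hker]
    exact eT.permCongrHom.map_eq_one_iff
  have hfix3 : ∀ σ : Equiv.Perm (Fin 3), σ ^ 3 = 1 → (∃ i, σ i = i) → σ = 1 := by decide
  have horb : ∀ σ : Equiv.Perm (Fin 3), σ ^ 2 = 1 ∨ σ ^ 3 = 1 := by decide
  -- an element of order three fixes no involution of `V`
  have hfpf : ∀ a : R, orderOf a = 3 → ∀ w ∈ V, Commute a w → w = 1 := by
    intro a ha w hw hc
    by_contra hw1
    have h3 : act3 a ^ 3 = 1 := by rw [← map_pow, orderOf_dvd_iff_pow_eq_one.mp ha.dvd, map_one]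
    let wT : T := ⟨⟨w, hw⟩, fun e => hw1 (congrArg Subtype.val e)⟩
    have hfixw : act a wT = wT := Subtype.ext (Subtype.ext (by
      rw [hact]; exact mul_inv_eq_iff_eq_mul.mpr hc.eq))
    have haV : a ∈ V := (hker3 a).mp (hfix3 _ h3 ⟨eT wT, by
      show eT (act a (eT.symm (eT wT))) = eT wT
      rw [Equiv.symm_apply_apply, hfixw]⟩)
    have := orderOf_dvd_of_pow_eq_one (show a ^ 2 = 1 by rw [pow_two, hsq a haV])
    rw [ha] at this
    omega
  refine PSL2.mulEquiv_permFour hR (fun g => ?_) fun h3 => ?_
  · set gb : R ⧸ V := QuotientGroup.mk g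
    have h6 : orderOf gb ∣ 6 := hidx ▸ orderOf_dvd_natCard gb
    have hgk : g ^ orderOf gb ∈ V := by
      rw [← QuotientGroup.eq_one_iff, QuotientGroup.mk_pow]
      exact pow_orderOf_eq_one gb
    have h2k : g ^ (2 * orderOf gb) = 1 := by rw [two_mul, pow_add, hsq _ hgk]
    have hg6 : orderOf gb ≠ 6 := by
      intro e
      rcases horb (act3 g) with h | h
      · have := Nat.le_of_dvd two_pos (orderOf_dvd_of_pow_eq_one (x := gb) (n := 2) (by
          rw [← QuotientGroup.mk_pow, QuotientGroup.eq_one_iff, ← hker3, map_pow, h]))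
        omega
      · have := Nat.le_of_dvd three_pos (orderOf_dvd_of_pow_eq_one (x := gb) (n := 3) (by
          rw [← QuotientGroup.mk_pow, QuotientGroup.eq_one_iff, ← hker3, map_pow, h]))
        omega
    have hg2 : orderOf g ∣ 2 * orderOf gb := orderOf_dvd_of_pow_eq_one h2k
    have hgd : orderOf gb ∣ orderOf g := orderOf_map_dvd (QuotientGroup.mk' V) g
    have hle6 := Nat.le_of_dvd (by norm_num) h6
    have hgpos := orderOf_pos g
    have hbpos := orderOf_pos gb
    have hle2 := Nat.le_of_dvd (by omega) hg2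
    by_cases h6' : orderOf g = 6
    · exfalso
      have hb3 : orderOf gb = 3 := by
        rw [h6'] at hg2 hgd
        interval_cases orderOf gb <;> omega
      have hord : orderOf (g ^ 2) = 3 := by rw [orderOf_pow, h6']; norm_num
      have hw := hfpf _ hord _ (hb3 ▸ hgk) (Commute.pow_pow_self g 2 3)
      have := Nat.le_of_dvd (by norm_num) (orderOf_dvd_of_pow_eq_one hw)
      omega
    · show orderOf g ∈ ({1, 2, 3, 4} : Set ℕ)
      simp only [Set.mem_insert_iff, Set.mem_singleton_iff]
      interval_cases hb : orderOf gb <;> omega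
  · -- a normal Sylow three-subgroup would centralize `V`
    obtain ⟨⟨hsub⟩, ⟨S⟩⟩ := Nat.card_eq_one_iff_unique.mp h3
    have : Subsingleton (Sylow 3 R) := ⟨hsub⟩
    have hSn : (S : Subgroup R).Normal := Sylow.normal_of_subsingleton S
    obtain ⟨a, ha⟩ := exists_prime_orderOf_dvd_card' (G := R) 3 (by rw [hR]; norm_num)
    obtain ⟨T, hT⟩ := (IsPGroup.of_card (p := 3) (n := 1) (G := Subgroup.zpowers a)
      (by rw [Nat.card_zpowers, ha, pow_one])).exists_le_sylow
    have haS : a ∈ (S : Subgroup R) := by
      rw [Subsingleton.elim S T]; exact hT (Subgroup.mem_zpowers a)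
    have hdisj : Disjoint V (S : Subgroup R) := by
      refine Subgroup.disjoint_of_coprime_natCard ?_
      obtain ⟨k, hk⟩ := IsPGroup.iff_card.mp S.2
      rw [hV, hk]
      exact Nat.Coprime.pow_right k (by norm_num)
    have : Nontrivial V := Finite.one_lt_card_iff_nontrivial.mp (by omega)
    obtain ⟨v, hv⟩ := exists_ne (1 : V)
    exact hv (Subtype.ext (hfpf a ha v v.2
      (Subgroup.commute_of_normal_of_disjoint V S inferInstance hSn hdisj v a v.2 haS).symm))

/-- A central involution of a group of order twelve with another involution has a complement. -/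
theorem exists_index_two_not_mem {A : Type*} [Group A] [Finite A] (hA : Nat.card A = 12) {z a : A}
    (hz : orderOf z = 2) (hzc : z ∈ Subgroup.center A) (ha : orderOf a = 2) (haz : a ≠ z) :
    ∃ B : Subgroup A, B.index = 2 ∧ z ∉ B := by
  have := Fact.mk Nat.prime_three
  obtain ⟨u, hu⟩ := exists_prime_orderOf_dvd_card' (G := A) 3 (by rw [hA]; norm_num)
  set U := Subgroup.zpowers u with hU
  have hUcard : Nat.card U = 3 := by rw [hU, Nat.card_zpowers, hu]
  have hUfac : Nat.card U = 3 ^ (Nat.card A).factorization 3 := by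
    have h12 : (12 : ℕ).factorization 3 = 1 := by
      rw [Nat.factorization_def _ Nat.prime_three, show 12 = 3 * 4 by norm_num,
        padicValNat.mul (by norm_num) (by norm_num), padicValNat_self, padicValNat.eq_zero_of_not_dvd (by norm_num)]
    rw [hUcard, hA, h12, pow_one]
  set S : Sylow 3 A := Sylow.ofCard U hUfac
  have hzN : z ∈ Subgroup.normalizer (U : Set A) := Subgroup.center_le_normalizer _ hzc
  have hNd : 6 ∣ Nat.card (Subgroup.normalizer (U : Set A)) := by
    refine Nat.Coprime.mul_dvd_of_dvd_of_dvd (show Nat.Coprime 2 3 by norm_num) ?_ ?_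
    · rw [← hz]; exact Subgroup.orderOf_dvd_natCard _ hzN
    · rw [← hUcard]; exact Subgroup.card_dvd_of_le Subgroup.le_normalizer
  have h1 : Nat.card (Sylow 3 A) ∣ 2 := by
    rw [S.card_eq_index_normalizer]
    show (Subgroup.normalizer (U : Set A)).index ∣ 2
    obtain ⟨m, hm⟩ := hNd
    have h := (Subgroup.normalizer (U : Set A)).index_mul_card
    rw [hm, hA] at h
    exact ⟨m, by
      generalize (Subgroup.normalizer (U : Set A)).index = i at h ⊢
      linarith⟩
  have h2 : Nat.card (Sylow 3 A) % 3 = 1 % 3 := card_sylow_modEq_one 3 A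
  have h3 : Nat.card (Sylow 3 A) = 1 := by
    have := Nat.le_of_dvd (by norm_num) h1
    interval_cases hc : Nat.card (Sylow 3 A) <;> omega
  have : Subsingleton (Sylow 3 A) := (Nat.card_eq_one_iff_unique.mp h3).1
  have hUn : U.Normal := Sylow.normal_of_subsingleton S
  set B := Subgroup.zpowers a ⊔ U with hB
  have hdisj : Disjoint (Subgroup.zpowers a) U := Subgroup.disjoint_of_coprime_natCard (by
    rw [Nat.card_zpowers, ha, hUcard]; norm_num)
  have hBcard : Nat.card B = 6 := by
    let f : Subgroup.zpowers a × U → B := fun w => ⟨w.1 * w.2, mul_mem (Subgroup.mem_sup_left w.1.2) (Subgroup.mem_sup_right w.2.2)⟩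
    have hf : Function.Bijective f := by
      refine ⟨fun w w' e => Subgroup.mul_injective_of_disjoint hdisj (congrArg Subtype.val e), fun b => ?_⟩
      have hb : (b : A) ∈ ((Subgroup.zpowers a ⊔ U : Subgroup A) : Set A) := b.2
      rw [Subgroup.mul_normal] at hb
      obtain ⟨c, hc, d, hd, hcd⟩ := hb
      exact ⟨(⟨c, hc⟩, ⟨d, hd⟩), Subtype.ext hcd⟩
    rw [← Nat.card_eq_of_bijective f hf, Nat.card_prod, Nat.card_zpowers, ha, hUcard]
  refine ⟨B, ?_, fun hzB => ?_⟩
  · have h := B.index_mul_card
    rw [hBcard, hA] at h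
    omega
  · -- `a` and `z` would generate a four-group inside `B`
    have hza : (⟨a, Subgroup.mem_sup_left (Subgroup.mem_zpowers a)⟩ : B) ≠ ⟨z, hzB⟩ :=
      fun e => haz (congrArg Subtype.val e)
    let a' : B := ⟨a, Subgroup.mem_sup_left (Subgroup.mem_zpowers a)⟩
    let z' : B := ⟨z, hzB⟩
    have haa : a' * a' = 1 := Subtype.ext (Involution.mul_self ha)
    have hzz : z' * z' = 1 := Subtype.ext (Involution.mul_self hz)
    have hcm : z' * a' = a' * z' := Subtype.ext (Subgroup.mem_center_iff.mp hzc a).symm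
    let V : Subgroup B :=
      { carrier := {b | b = 1 ∨ b = a' ∨ b = z' ∨ b = a' * z'}
        one_mem' := Or.inl rfl
        mul_mem' := by
          have e1 : ∀ b : B, a' * (a' * b) = b := fun b => by rw [← mul_assoc, haa, one_mul]
          have e2 : z' * (a' * z') = a' := by rw [← mul_assoc, hcm, mul_assoc, hzz, mul_one]
          rintro b c (rfl | rfl | rfl | rfl) (rfl | rfl | rfl | rfl) <;>
            simp only [Set.mem_setOf_eq, one_mul, mul_one, mul_assoc, haa, hzz, hcm, e1, e2, true_or, or_true]
        inv_mem' := by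
          rintro b (rfl | rfl | rfl | rfl)
          · exact Or.inl inv_one
          · exact Or.inr (Or.inl (inv_eq_of_mul_eq_one_right haa))
          · exact Or.inr (Or.inr (Or.inl (inv_eq_of_mul_eq_one_right hzz)))
          · refine Or.inr (Or.inr (Or.inr (inv_eq_of_mul_eq_one_right ?_)))
            rw [mul_assoc a', ← mul_assoc z', hcm, mul_assoc a', hzz, mul_one, haa] }
    have hVcard : Nat.card V = 4 := by
      classical
      have hset : (V : Set B) = (↑({1, a', z', a' * z'} : Finset B) : Set B) := by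
        ext b
        simp [V]
      rw [← SetLike.coe_sort_coe, Nat.card_coe_set_eq, hset, Set.ncard_coe_finset]
      have n1 : (1 : B) ≠ a' := fun e => by
        have := congrArg Subtype.val e
        rw [show ((a' : B) : A) = a from rfl] at this
        rw [← this] at ha
        simp at ha
      have n2 : (1 : B) ≠ z' := fun e => by
        have := congrArg Subtype.val e
        rw [show ((z' : B) : A) = z from rfl] at this
        rw [← this] at hz
        simp at hz
      have n3 : (1 : B) ≠ a' * z' := fun e => hza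
        ((eq_inv_of_mul_eq_one_left e.symm).trans (inv_eq_of_mul_eq_one_right hzz))
      have n4 : a' ≠ a' * z' := fun e => n2 (left_eq_mul.mp e).symm
      have n5 : z' ≠ a' * z' := fun e => n1 (right_eq_mul.mp e).symm
      have n6 : a' ≠ z' := hza
      clear_value a' z'
      simp [n1, n2, n3, n4, n5, n6]
    have := V.card_subgroup_dvd_card
    rw [hVcard, hBcard] at this
    omega

/-- Splitting off a central involution. -/
theorem mulEquiv_prod {R : Type*} [Group R] [Finite R] {z : R} (hz : orderOf z = 2)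
    [(Subgroup.zpowers z).Normal] {M : Subgroup R} (hM : M.index = 2) (hzM : z ∉ M) {S : Type*} [Group S]
    (e : R ⧸ Subgroup.zpowers z ≃* S) : Nonempty (R ≃* S × Multiplicative (ZMod 2)) := by
  have := Fact.mk Nat.prime_two
  have hMn : M.Normal := Subgroup.normal_of_index_eq_two hM
  have e2 : R ⧸ M ≃* Multiplicative (ZMod 2) := mulEquivOfPrimeCardEq (p := 2)
    (by rw [← Subgroup.index_eq_card, hM]) (by rw [Nat.card_congr Multiplicative.toAdd, Nat.card_zmod])
  let f : R →* (R ⧸ Subgroup.zpowers z) × (R ⧸ M) := (QuotientGroup.mk' _).prod (QuotientGroup.mk' M)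
  have hf : Function.Bijective f := by
    rw [Nat.bijective_iff_injective_and_card, Nat.card_prod, ← Subgroup.index_eq_card, ← Subgroup.index_eq_card, hM]
    refine ⟨(injective_iff_map_eq_one f).mpr fun g hg => ?_, ?_⟩
    · have h1 : g ∈ Subgroup.zpowers z := (QuotientGroup.eq_one_iff g).mp (congrArg Prod.fst hg)
      have h2 : g ∈ M := (QuotientGroup.eq_one_iff g).mp (congrArg Prod.snd hg)
      by_contra hg1
      have hgz : Subgroup.zpowers g = Subgroup.zpowers z := by
        refine Subgroup.eq_of_le_of_card_ge (Subgroup.zpowers_le.mpr h1) ?_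
        rw [Nat.card_zpowers, Nat.card_zpowers, hz]
        have := orderOf_eq_one_iff.not.mpr hg1
        have := orderOf_pos g
        omega
      exact hzM ((Subgroup.zpowers_le.mpr h2) (hgz ▸ Subgroup.mem_zpowers z))
    · have h := (Subgroup.zpowers z).index_mul_card
      rw [Nat.card_zpowers, hz] at h
      omega
  exact ⟨(MulEquiv.ofBijective f hf).trans (MulEquiv.prodCongr e e2)⟩

end Cfsg.Agent.SimsChain
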