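/-
The quotient by the odd core in the dihedral case.

Main results (namespace `Cfsg.Agent.SimsChain`):
* `card_oddCore_of_central`, `index_centralizer_pair`, `mulEquiv_quot_permFour`, `mulEquiv_quot_prod`
-/
import Cfsg.Agent.Lib.SimsChain.SmallTop
import Cfsg.Agent.Lib.Cores.Basic
import Cfsg.Prelude.Def_CaseTheorems
import Cfsg.Agent.EqLemmas

set_option autoImplicit false
set_option linter.unusedSectionVars false

namespace Cfsg.Agent.SimsChain

variable {H : Type*} [Group H] [Finite H]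

theorem odd_card_oddCore : ¬ 2 ∣ Nat.card (Cfsg.oddCore H) :=
  Nat.prime_two.coprime_iff_not_dvd.mp (Cores.coprime_card_pPrimeCore (G := H) 2).symm

/-- A central Sylow `2`-subgroup of a normal subgroup `C ⊇ O(H)` complements `O(H)` in `C`. -/
theorem card_oddCore_of_central {C Z : Subgroup H} [C.Normal] (hZC : Z ≤ C)
    (hcen : ∀ z ∈ Z, ∀ c ∈ C, Commute z c) (hZ : IsPGroup 2 Z) (hodd : ¬ 2 ∣ Z.relIndex C)
    (hO : Cfsg.oddCore H ≤ C) : Nat.card C = Nat.card Z * Nat.card (Cfsg.oddCore H) := by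
  have := Fact.mk Nat.prime_two
  set Z' : Subgroup C := Z.subgroupOf C
  have hZ'card : Nat.card Z' = Nat.card Z := Nat.card_congr (Subgroup.subgroupOfEquivOfLe hZC).toEquiv
  obtain ⟨k, hk⟩ := IsPGroup.iff_card.mp hZ
  have hcop : Nat.Coprime (Nat.card Z') Z'.index := by
    rw [hZ'card, hk]
    exact Nat.Coprime.pow_left k (Nat.prime_two.coprime_iff_not_dvd.mpr hodd)
  have : Z'.Normal := ⟨fun z hz g => by
    have h : g * z * g⁻¹ = z := Subtype.ext (by
      show (g : H) * z * (g : H)⁻¹ = z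
      rw [← (hcen z hz g g.2).eq, mul_inv_cancel_right])
    rw [h]; exact hz⟩
  obtain ⟨N, hN⟩ := Subgroup.exists_right_complement'_of_coprime hcop
  have hNcard : Nat.card N = Z'.index := hN.symm.index_eq_card.symm
  -- odd-order elements lie in `N`
  have hoddN : ∀ g : C, Odd (orderOf g) → g ∈ N := by
    intro g hg
    obtain ⟨⟨z, w⟩, hzw⟩ := hN.2 g
    have hzw' : (z : C) * w = g := hzw
    have hcm : Commute (z : C) (w : C) := Subtype.ext (hcen _ z.2 _ (w : C).2).eq
    have h1 : (z : C) ^ orderOf g * (w : C) ^ orderOf g = 1 := by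
      rw [← hcm.mul_pow, hzw', pow_orderOf_eq_one]
    have h2 : (z : C) ^ orderOf g = 1 := by
      have hmem : (z : C) ^ orderOf g ∈ Z' ⊓ N :=
        ⟨pow_mem z.2 _, by rw [eq_inv_of_mul_eq_one_left h1]; exact N.inv_mem (N.pow_mem w.2 _)⟩
      rwa [hN.disjoint.eq_bot, Subgroup.mem_bot] at hmem
    have h3 : (z : C) = 1 := by
      refine orderOf_eq_one_iff.mp (Nat.eq_one_of_dvd_coprimes ?_ (orderOf_dvd_of_pow_eq_one h2)
        ((Subgroup.orderOf_dvd_natCard Z' z.2)))
      rw [hZ'card, hk]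
      exact Nat.Coprime.pow_right k hg.coprime_two_right
    rw [h3, one_mul] at hzw'
    exact hzw' ▸ w.2
  have hNodd : ¬ 2 ∣ Nat.card N := by rw [hNcard]; exact hodd
  have hNn : (N.map C.subtype).Normal := ⟨fun x hx g => by
    obtain ⟨c, hc, rfl⟩ := hx
    have hmem : g * (c : H) * g⁻¹ ∈ C := (inferInstance : C.Normal).conj_mem _ c.2 g
    refine ⟨⟨_, hmem⟩, hoddN _ ?_, rfl⟩
    rw [← orderOf_injective C.subtype C.subtype_injective]
    show Odd (orderOf (g * (c : H) * g⁻¹))
    rw [show g * (c : H) * g⁻¹ = MulAut.conj g (c : H) from rfl, MulEquiv.orderOf_eq, Subgroup.orderOf_coe]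
    exact Nat.not_even_iff_odd.mp fun he => hNodd
      ((even_iff_two_dvd.mp he).trans (Subgroup.orderOf_dvd_natCard N hc))⟩
  have hNO : N.map C.subtype = Cfsg.oddCore H := by
    refine le_antisymm (Cores.le_pPrimeCore hNn ?_) ?_
    · rw [Subgroup.card_map_of_injective C.subtype_injective]
      exact (Nat.prime_two.coprime_iff_not_dvd.mpr hNodd).symm
    · intro x hx
      refine ⟨⟨x, hO hx⟩, hoddN _ ?_, rfl⟩
      rw [← orderOf_injective C.subtype C.subtype_injective]
      exact Nat.not_even_iff_odd.mp fun he => odd_card_oddCore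
        ((even_iff_two_dvd.mp he).trans (Subgroup.orderOf_dvd_natCard _ hx))
  rw [← hNO, Subgroup.card_map_of_injective C.subtype_injective, hNcard, ← hZ'card, mul_comm]
  exact (Z'.index_mul_card).symm

variable {a b u v : H}

theorem perm_three_facts : (∀ σ : Equiv.Perm (Fin 3), (∃ i, σ i = i) → σ ^ 2 = 1) ∧ Fintype.card (Equiv.Perm (Fin 3)) = 6 := by
  decide

/-- A group permuting the involutions of a four-group `⟨a, b⟩` as the symmetric group. -/
theorem index_centralizer_pair (ha : a * a = 1) (hb : b * b = 1) (ha1 : a ≠ 1) (hb1 : b ≠ 1)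
    (hab : a ≠ b) (hua : u * a * u⁻¹ = a) (hub : u * b * u⁻¹ = a * b) (hvb : v * b * v⁻¹ = b)
    (hva : v * a * v⁻¹ = a * b) (hT : ∀ g : H, ∀ w ∈ ({a, b, a * b} : Set H), g * w * g⁻¹ ∈ ({a, b, a * b} : Set H)) :
    (Subgroup.centralizer ({a, b} : Set H)).Normal ∧ (Subgroup.centralizer ({a, b} : Set H)).index = 6 := by
  classical
  let T := {w : H // w ∈ ({a, b, a * b} : Set H)}
  have ha_ab : a ≠ a * b := fun e => hb1 (left_eq_mul.mp e)
  have hb_ab : b ≠ a * b := fun e => ha1 (right_eq_mul.mp e)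
  have hcardT : Nat.card T = 3 := by
    show Nat.card ({a, b, a * b} : Set H) = 3
    rw [Nat.card_coe_set_eq, Set.ncard_eq_three]
    exact ⟨a, b, a * b, hab, ha_ab, hb_ab, rfl⟩
  let eT : T ≃ Fin 3 := Finite.equivFinOfCardEq hcardT
  let φ : H →* Equiv.Perm T :=
    { toFun := fun g =>
        { toFun := fun w => ⟨g * w * g⁻¹, hT g w w.2⟩
          invFun := fun w => ⟨g⁻¹ * w * g, by simpa using hT g⁻¹ w w.2⟩
          left_inv := fun w => Subtype.ext (by show g⁻¹ * (g * w * g⁻¹) * g = w; group)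
          right_inv := fun w => Subtype.ext (by show g * (g⁻¹ * w * g) * g⁻¹ = w; group) }
      map_one' := Equiv.ext fun w => Subtype.ext (by show 1 * (w : H) * 1⁻¹ = w; group)
      map_mul' := fun g g' => Equiv.ext fun w => Subtype.ext (by
        show g * g' * (w : H) * (g * g')⁻¹ = g * (g' * w * g'⁻¹) * g⁻¹; group) }
  have hker : φ.ker = Subgroup.centralizer ({a, b} : Set H) := by
    ext g
    rw [MonoidHom.mem_ker, Subgroup.mem_centralizer_iff]
    constructor
    · intro hg w hw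
      have hwT : w ∈ ({a, b, a * b} : Set H) := by
        rcases hw with rfl | hw
        · exact Or.inl rfl
        · exact Or.inr (Or.inl hw)
      have := congrArg (fun σ : Equiv.Perm T => ((σ ⟨w, hwT⟩ : T) : H)) hg
      exact (mul_inv_eq_iff_eq_mul.mp this).symm
    · intro hg
      have hga : g * a * g⁻¹ = a := mul_inv_eq_iff_eq_mul.mpr (hg a (Or.inl rfl)).symm
      have hgb : g * b * g⁻¹ = b := mul_inv_eq_iff_eq_mul.mpr (hg b (Or.inr rfl)).symm
      refine Equiv.ext fun ⟨w, hw⟩ => Subtype.ext ?_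
      show g * w * g⁻¹ = w
      rcases hw with rfl | rfl | hw
      · exact hga
      · exact hgb
      · rw [Set.mem_singleton_iff.mp hw, ← conj_mul, hga, hgb]
  refine ⟨hker ▸ inferInstance, ?_⟩
  rw [← hker, Subgroup.index_ker]
  let aT : T := ⟨a, Or.inl rfl⟩
  let bT : T := ⟨b, Or.inr (Or.inl rfl)⟩
  have hu1 : φ u ≠ 1 := fun e => hb_ab ((congrArg (fun σ : Equiv.Perm T => ((σ bT : T) : H)) e).symm.trans hub)
  have huv : φ u ≠ φ v := fun e => ha_ab
    (hua.symm.trans ((congrArg (fun σ : Equiv.Perm T => ((σ aT : T) : H)) e).trans hva))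
  have hv1 : φ v ≠ 1 := fun e => ha_ab ((congrArg (fun σ : Equiv.Perm T => ((σ aT : T) : H)) e).symm.trans hva)
  obtain ⟨hsq, -⟩ := perm_three_facts
  have hu2 : orderOf (φ u) = 2 := by
    refine orderOf_eq_prime ?_ hu1
    have h3 : eT.permCongrHom ((φ u) ^ 2) = 1 := by
      rw [map_pow]
      refine hsq _ ⟨eT aT, ?_⟩
      show eT (φ u (eT.symm (eT aT))) = eT aT
      rw [Equiv.symm_apply_apply]
      exact congrArg eT (Subtype.ext hua)
    exact eT.permCongrHom.map_eq_one_iff.mp h3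
  have h6 : Nat.card φ.range ∣ 6 := by
    have h := Subgroup.card_subgroup_dvd_card φ.range
    rwa [Nat.card_perm, hcardT] at h
  have h2 : 2 ∣ Nat.card φ.range := hu2 ▸ Subgroup.orderOf_dvd_natCard φ.range ⟨u, rfl⟩
  have h3 : 3 ≤ Nat.card φ.range := by
    rw [← SetLike.coe_sort_coe, Nat.card_coe_set_eq]
    refine le_trans (le_of_eq ?_) (Set.ncard_le_ncard (show ({1, φ u, φ v} : Set (Equiv.Perm T)) ⊆ φ.range by
      rintro σ (rfl | rfl | rfl)
      exacts [one_mem _, ⟨u, rfl⟩, ⟨v, rfl⟩]) (Set.toFinite _))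
    exact (Set.ncard_eq_three.mpr ⟨1, φ u, φ v, hu1.symm, hv1.symm, huv, rfl⟩).symm
  have hle := Nat.le_of_dvd (by norm_num) h6
  obtain ⟨m, hm⟩ := h2
  obtain ⟨m', hm'⟩ := h6
  rw [hm] at h3 hle hm' ⊢
  have hmm : m * m' = 3 := by
    rw [mul_assoc] at hm'
    omega
  have hm3 : m = 1 ∨ m = 3 := (Nat.dvd_prime Nat.prime_three).mp ⟨m', hmm.symm⟩
  omega

/-- The quotient by `L` is `S₄`. -/
theorem mulEquiv_quot_permFour (ha : a * a = 1) (hb : b * b = 1) (hcomm : Commute a b)
    (hT : ∀ g : H, ∀ w ∈ ({a, b, a * b} : Set H), g * w * g⁻¹ ∈ ({a, b, a * b} : Set H))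
    [(Subgroup.centralizer ({a, b} : Set H)).Normal] (hidx : (Subgroup.centralizer ({a, b} : Set H)).index = 6)
    (L : Subgroup H) [L.Normal] (hL : L ≤ Subgroup.centralizer ({a, b} : Set H))
    (hcard : Nat.card (Subgroup.centralizer ({a, b} : Set H)) = 4 * Nat.card L)
    (haL : a ∉ L) (hbL : b ∉ L) (habL : a * b ∉ L) :
    Nonempty (H ⧸ L ≃* Equiv.Perm (Fin 4)) := by
  classical
  set C := Subgroup.centralizer ({a, b} : Set H)
  have haC : a ∈ C := Subgroup.mem_centralizer_iff.mpr (by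
    rintro w (rfl | hw)
    · rfl
    · rw [Set.mem_singleton_iff.mp hw]; exact hcomm.eq.symm)
  have hbC : b ∈ C := Subgroup.mem_centralizer_iff.mpr (by
    rintro w (rfl | hw)
    · exact hcomm.eq
    · rw [Set.mem_singleton_iff.mp hw])
  let π := QuotientGroup.mk' L
  set V : Subgroup (H ⧸ L) := C.map π
  have : V.Normal := Subgroup.Normal.map inferInstance π (QuotientGroup.mk'_surjective L)
  have hVC : V.comap π = C := Subgroup.comap_map_eq_self (by rw [QuotientGroup.ker_mk']; exact hL)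
  have hLpos : 0 < Nat.card L := Nat.card_pos
  have hR : Nat.card (H ⧸ L) = 24 := by
    have h1 := L.index_mul_card
    have h2 := C.index_mul_card
    rw [hidx, hcard] at h2
    rw [← Subgroup.index_eq_card]
    exact Nat.eq_of_mul_eq_mul_right hLpos (by rw [h1, ← h2]; ring)
  have hVcard : Nat.card V = 4 := by
    have h1 := V.index_mul_card
    rw [← V.index_comap_of_surjective (QuotientGroup.mk'_surjective L), hVC, hidx, hR] at h1
    omega
  let π' : H →* H ⧸ L := π
  have hne : ∀ w w' : H, w⁻¹ * w' ∉ L → π' w ≠ π' w' := fun w w' h e => h (QuotientGroup.eq.mp e)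
  have hai := inv_eq_of_mul_eq_one_right ha
  have hbi := inv_eq_of_mul_eq_one_right hb
  have hset : (V : Set (H ⧸ L)) = {π' 1, π' a, π' b, π' (a * b)} := by
    symm
    refine Set.eq_of_subset_of_ncard_le ?_ ?_ (Set.toFinite _)
    · rintro _ (rfl | rfl | rfl | rfl)
      exacts [⟨1, C.one_mem, rfl⟩, ⟨a, haC, rfl⟩, ⟨b, hbC, rfl⟩, ⟨a * b, C.mul_mem haC hbC, rfl⟩]
    · rw [← Nat.card_coe_set_eq, show Nat.card (V : Set (H ⧸ L)) = 4 from hVcard]
      have n1 : π' 1 ≠ π' a := hne _ _ (by simpa using haL)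
      have n2 : π' 1 ≠ π' b := hne _ _ (by simpa using hbL)
      have n3 : π' 1 ≠ π' (a * b) := hne _ _ (by simpa using habL)
      have n4 : π' a ≠ π' b := hne _ _ (by rw [hai]; exact habL)
      have n5 : π' a ≠ π' (a * b) := hne _ _ (by simpa using hbL)
      have n6 : π' b ≠ π' (a * b) := hne _ _ (by rw [hbi, ← mul_assoc, hcomm.eq.symm, mul_assoc, hb, mul_one]; exact haL)
      rw [Set.ncard_insert_of_notMem (by simp only [Set.mem_insert_iff, Set.mem_singleton_iff, not_or]; exact ⟨n1, n2, n3⟩) (Set.toFinite _),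
        Set.ncard_insert_of_notMem (by simp only [Set.mem_insert_iff, Set.mem_singleton_iff, not_or]; exact ⟨n4, n5⟩) (Set.toFinite _), Set.ncard_pair n6]
  refine mulEquiv_permFour_of_klein hR V hVcard (fun z hz => ?_) fun g hg => ?_
  · rw [← SetLike.mem_coe, hset] at hz
    rcases hz with rfl | rfl | rfl | rfl <;> rw [← map_mul]
    · simp
    · rw [ha, map_one]
    · rw [hb, map_one]
    · rw [show a * b * (a * b) = a * (b * a) * b by group, hcomm.eq.symm, show a * (a * b) * b = a * a * (b * b) by group,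
        ha, hb, one_mul, map_one]
  · obtain ⟨g, rfl⟩ := QuotientGroup.mk'_surjective L g
    refine ⟨g, Subgroup.mem_centralizer_iff.mpr ?_, rfl⟩
    have key : ∀ w ∈ ({a, b} : Set H), g * w * g⁻¹ = w := by
      intro w hw
      have hwC : w ∈ C := by rcases hw with rfl | hw; exacts [haC, Set.mem_singleton_iff.mp hw ▸ hbC]
      have h1 : π' (g * w * g⁻¹) = π' w := by
        rw [map_mul, map_mul, map_inv, mul_inv_eq_iff_eq_mul]
        exact hg _ ⟨w, hwC, rfl⟩
      have h2 : (g * w * g⁻¹)⁻¹ * w ∈ L := QuotientGroup.eq.mp h1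
      have hwT : w ∈ ({a, b, a * b} : Set H) := by
        rcases hw with rfl | hw
        exacts [Or.inl rfl, Or.inr (Or.inl hw)]
      by_contra hne'
      have habi : (a * b)⁻¹ = a * b := inv_eq_of_mul_eq_one_right (by
        rw [show a * b * (a * b) = a * (b * a) * b by group, hcomm.eq.symm,
          show a * (a * b) * b = a * a * (b * b) by group, ha, hb, one_mul])
      rcases hw with rfl | hw
      · rcases hT g w hwT with e | e | e
        · exact hne' e
        · rw [e, hbi] at h2; exact habL (hcomm.eq.symm ▸ h2)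
        · rw [Set.mem_singleton_iff.mp e, habi, hcomm.eq, mul_assoc, ha, mul_one] at h2; exact hbL h2
      · rw [Set.mem_singleton_iff] at hw
        subst hw
        rcases hT g w hwT with e | e | e
        · rw [e, hai] at h2; exact habL h2
        · exact hne' e
        · rw [Set.mem_singleton_iff.mp e, habi, mul_assoc, hb, mul_one] at h2; exact haL h2
    intro w hw
    exact (mul_inv_eq_iff_eq_mul.mp (key w hw)).symm

/-- The quotient by `O(H)` is `S₄ × 2`. -/
theorem mulEquiv_quot_prod {z u : H} (hz : orderOf z = 2) (hzc : z ∈ Subgroup.center H) {O W : Subgroup H}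
    [O.Normal] [W.Normal] [(O ⊔ Subgroup.zpowers z).Normal] (hO : ¬ 2 ∣ Nat.card O) (e : Nonempty (H ⧸ (O ⊔ Subgroup.zpowers z) ≃* Equiv.Perm (Fin 4)))
    (hzW : z ∉ W) (hOW : O ≤ W) (hW : Nat.card (H ⧸ W) = 12) (hu : u * u = 1) (huW : u ∉ W) (huz : u * z ∉ W) :
    Nonempty (H ⧸ O ≃* Equiv.Perm (Fin 4) × Multiplicative (ZMod 2)) := by
  obtain ⟨e⟩ := e
  have := Fact.mk Nat.prime_two
  let π := QuotientGroup.mk' W
  have hz' : orderOf (π z) = 2 := orderOf_eq_prime (by rw [← map_pow, ← hz, pow_orderOf_eq_one, map_one])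
    (fun h => hzW ((QuotientGroup.eq_one_iff z).mp h))
  have hu' : orderOf (π u) = 2 := orderOf_eq_prime (by rw [← map_pow, pow_two, hu, map_one])
    (fun h => huW ((QuotientGroup.eq_one_iff u).mp h))
  have hne : π u ≠ π z := fun h => huz (by
    have h' : u⁻¹ * z ∈ W := QuotientGroup.eq.mp h
    rwa [inv_eq_of_mul_eq_one_right hu] at h')
  obtain ⟨B, hB, hzB⟩ := exists_index_two_not_mem hW hz'
    (Subgroup.mem_center_iff.mpr fun g => by
      obtain ⟨g, rfl⟩ := QuotientGroup.mk'_surjective W g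
      rw [← map_mul, ← map_mul, Subgroup.mem_center_iff.mp hzc g]) hu' hne
  let π₀ := QuotientGroup.mk' O
  have hzR : orderOf (π₀ z) = 2 := orderOf_eq_prime (by rw [← map_pow, ← hz, pow_orderOf_eq_one, map_one])
    (fun h => hO (hz ▸ Subgroup.orderOf_dvd_natCard O ((QuotientGroup.eq_one_iff z).mp h)))
  have hzn : (Subgroup.zpowers (π₀ z)).Normal := ⟨fun w hw g => by
    obtain ⟨g, rfl⟩ := QuotientGroup.mk'_surjective O g
    obtain ⟨i, rfl⟩ := hw
    refine ⟨i, ?_⟩
    show π₀ z ^ i = π₀ g * π₀ z ^ i * (π₀ g)⁻¹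
    rw [← map_zpow, ← map_mul, Subgroup.mem_center_iff.mp (Subgroup.zpow_mem _ hzc i) g, map_mul,
      mul_inv_cancel_right]⟩
  set M : Subgroup (H ⧸ O) := (B.comap π).map π₀
  have hMc : M.comap π₀ = B.comap π := Subgroup.comap_map_eq_self (by
    rw [QuotientGroup.ker_mk']
    intro x hx
    show π x ∈ B
    rw [show π x = 1 from (QuotientGroup.eq_one_iff x).mpr (hOW hx)]
    exact B.one_mem)
  have hM : M.index = 2 := by
    rw [← M.index_comap_of_surjective (QuotientGroup.mk'_surjective O), hMc,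
      B.index_comap_of_surjective (QuotientGroup.mk'_surjective W), hB]
  have hzM : π₀ z ∉ M := fun h => hzB (hMc.le h)
  let L := O ⊔ Subgroup.zpowers z
  have hLmap : L.map π₀ = Subgroup.zpowers (π₀ z) := by
    rw [Subgroup.map_sup, MonoidHom.map_zpowers, show O.map π₀ = ⊥ from QuotientGroup.map_mk'_self O, bot_sup_eq]
  have e1 : (H ⧸ O) ⧸ Subgroup.zpowers (π₀ z) ≃* Equiv.Perm (Fin 4) :=
    ((QuotientGroup.quotientMulEquivOfEq hLmap.symm).trans
      (QuotientGroup.quotientQuotientEquivQuotient O L le_sup_left)).trans e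
  exact mulEquiv_prod hzR hM hzM e1

end Cfsg.Agent.SimsChain
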