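/-
The Sims chain of a group with dihedral quotient and an arbitrary outer automorphism of a Sylow
`2`-subgroup, and the exclusion of automorphisms of odd order in a maximal `2`-local.

Main results (namespace `Cfsg.Agent.SimsChain`):
* `exists_dihedral_chain` : the chain, without any hypothesis on the square of the automorphism
* `odd_aut_false`         : no outer automorphism of odd order when no `N ≠ 1` is normal in `H` and `Hʸ`
-/
import Cfsg.Agent.Lib.SimsChain.DihedralCase
import Cfsg.Agent.Lib.Cores.Basic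

set_option autoImplicit false
set_option linter.unusedSectionVars false

namespace Cfsg.Agent.SimsChain

open DihedralGroup
open scoped Pointwise commutatorElement

variable {G : Type*} [Group G] [Finite G]

/-- The chain through `P` generating `H`. -/
theorem exists_dihedral_chain
    (H : Subgroup G) (hO : Cfsg.pCore 2 ↥H ≠ ⊥) (n : ℕ) (hn : 2 ≤ n)
    (hdih : Nonempty (↥H ⧸ Cfsg.pCore 2 ↥H ≃* DihedralGroup n))
    (P : Subgroup G) (hPH : P ≤ H) (hP : IsPGroup 2 P) (hPsyl : ¬ 2 ∣ P.relIndex H)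
    (y : G) (hyN : MulAut.conj y • P = P)
    (hyQ : ∀ Q : Subgroup G, Q ≤ P → (Q.subgroupOf H).Normal → MulAut.conj y • Q = Q → Q = ⊥) :
    ∃ (h : G) (t : ℕ) (x : ℤ → G), h ∈ H ∧ 2 ≤ t ∧ Chain 2 t x ∧ W x 0 t = P ∧
      W x 0 (t + 1) = H ∧ W x 1 (t - 1) = (Cfsg.pCore 2 ↥H).map H.subtype ∧
      ∀ i : ℤ, h * (y * x i * y⁻¹) * h⁻¹ = x (i + 1) := by
  classical
  have := Fact.mk Nat.prime_two
  obtain ⟨e⟩ := hdih
  set Z := Cfsg.pCore 2 ↥H with hZdef
  let f : ↥H →* DihedralGroup n := e.toMonoidHom.comp (QuotientGroup.mk' Z)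
  have hf : Function.Surjective f := e.surjective.comp (QuotientGroup.mk'_surjective Z)
  have hfker : f.ker = Z := by
    ext g
    show e (QuotientGroup.mk' Z g) = 1 ↔ g ∈ Z
    rw [e.map_eq_one_iff]
    exact QuotientGroup.eq_one_iff g
  -- `n` is odd
  have hnodd : ¬ 2 ∣ n := by
    rintro ⟨k, rfl⟩
    have hk0 : (k : ZMod (2 * k)) ≠ 0 := fun h0 => by
      rw [ZMod.natCast_eq_zero_iff] at h0
      have := Nat.le_of_dvd (by omega) h0
      omega
    have h2k : (k : ZMod (2 * k)) + k = 0 := by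
      rw [← Nat.cast_add, ← two_mul, ZMod.natCast_self]
    have hcomm : ∀ g : DihedralGroup (2 * k), g * r (k : ZMod (2 * k)) = r k * g := by
      rintro (j | j)
      · rw [r_mul_r, r_mul_r, add_comm]
      · rw [sr_mul_r, r_mul_sr, eq_sub_of_add_eq (show j + k + k = j by rw [add_assoc, h2k, add_zero])]
    have ho : orderOf (r (k : ZMod (2 * k))) = 2 := orderOf_eq_prime (by rw [pow_two, r_mul_r, h2k, r_zero])
      (fun h0 => hk0 (by rw [← r_zero] at h0; exact DihedralGroup.r.inj h0))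
    set z := e.symm (r (k : ZMod (2 * k)))
    have hzc : z ∈ Subgroup.center (↥H ⧸ Z) := Subgroup.mem_center_iff.mpr fun g => e.injective (by
      rw [map_mul, map_mul, MulEquiv.apply_symm_apply]; exact hcomm (e g))
    have hzn : (Subgroup.zpowers z).Normal := ⟨fun w hw g => by
      rw [Subgroup.mem_center_iff.mp ((Subgroup.zpowers_le.mpr hzc) hw) g, mul_inv_cancel_right]; exact hw⟩
    have hzo : orderOf z = 2 := by rw [MulEquiv.orderOf_eq, ho]
    have hle : Subgroup.zpowers z ≤ Cfsg.pCore 2 (↥H ⧸ Z) := Cores.le_pCore hzn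
      (IsPGroup.of_card (n := 1) (by rw [Nat.card_zpowers, hzo, pow_one]))
    have := Subgroup.mem_bot.mp ((hle.trans (le_of_eq (Cores.pCore_quotient_self 2 ↥H))) (Subgroup.mem_zpowers z))
    rw [this, orderOf_one] at hzo
    omega
  have hn3 : 3 ≤ n := by
    rcases (show n = 2 ∨ 3 ≤ n by omega) with h | h
    · exact absurd (h ▸ dvd_rfl) hnodd
    · exact h
  -- orders
  set Q : Subgroup G := Z.map H.subtype with hQdef
  set P' := P.subgroupOf H
  have hP'p : IsPGroup 2 P' := hP.comap_subtype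
  let SP : Sylow 2 ↥H := hP'p.toSylow hPsyl
  have hZP : Z ≤ P' := (Cores.isPGroup_pCore 2 _).le_sylow_of_normal SP
  have hQP : Q ≤ P := by rintro _ ⟨z, hz, rfl⟩; exact hZP hz
  have hQH : Q ≤ H := Subgroup.map_subtype_le Z
  obtain ⟨b, hb⟩ := IsPGroup.iff_card.mp (Cores.isPGroup_pCore 2 ↥H)
  obtain ⟨a, ha⟩ := IsPGroup.iff_card.mp hP'p
  have hHcard : Nat.card ↥H = 2 ^ b * (2 * n) := by
    rw [← f.ker.index_mul_card, Subgroup.index_ker, MonoidHom.range_eq_top.mpr hf, Subgroup.card_top, nat_card, hfker,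
      hb, mul_comm]
  have hab : a = b + 1 := by
    have h1 := P'.index_mul_card
    rw [ha, hHcard] at h1
    have hc : ∀ i, Nat.Coprime (2 ^ i) n := fun i => Nat.Coprime.pow_left i (Nat.prime_two.coprime_iff_not_dvd.mpr hnodd)
    have hc' : ∀ i, Nat.Coprime (2 ^ i) P'.index :=
      fun i => Nat.Coprime.pow_left i (Nat.prime_two.coprime_iff_not_dvd.mpr hPsyl)
    refine le_antisymm ?_ ?_
    · refine (Nat.pow_dvd_pow_iff_le_right (by norm_num : 1 < 2)).mp ((hc a).dvd_of_dvd_mul_right (m := 2 ^ (b + 1)) ?_)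
      exact ⟨P'.index, by rw [pow_succ, mul_assoc, ← h1, mul_comm]⟩
    · refine (Nat.pow_dvd_pow_iff_le_right (by norm_num : 1 < 2)).mp ((hc' (b + 1)).dvd_of_dvd_mul_left (n := 2 ^ a) ?_)
      exact ⟨n, by rw [h1, pow_succ, mul_assoc]⟩
  have hP'card : Nat.card P' = 2 * 2 ^ b := by rw [ha, hab, pow_succ']
  have hPcard : Nat.card P = 2 * 2 ^ b := by
    rw [← hP'card]; exact (Nat.card_congr (Subgroup.subgroupOfEquivOfLe hPH).toEquiv).symm
  have hQcard : Nat.card Q = 2 ^ b := by rw [hQdef, Subgroup.card_map_of_injective H.subtype_injective, hb]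
  -- the image of `P` is generated by a reflection
  have himg : Nat.card (P'.map f) = 2 := by
    have h1 : P'.map f = (f.comp P'.subtype).range := by rw [MonoidHom.range_comp, Subgroup.range_subtype]
    have hk : (f.comp P'.subtype).ker = Z.subgroupOf P' := by rw [← hfker]; rfl
    have h2 := (f.comp P'.subtype).ker.index_mul_card
    rw [Subgroup.index_ker, ← h1, hk, Nat.card_congr (Subgroup.subgroupOfEquivOfLe hZP).toEquiv, hb, hP'card] at h2
    exact Nat.eq_of_mul_eq_mul_right (pow_pos two_pos b) h2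
  obtain ⟨⟨τ, hτ⟩, hτ1, hτu⟩ := (Nat.card_eq_two_iff' (1 : P'.map f)).mp himg
  obtain ⟨i, rfl⟩ : ∃ i, τ = sr i := by
    rcases τ with j | j
    · exfalso
      have ho : orderOf (r j) ∣ 2 := himg ▸ Subgroup.orderOf_dvd_natCard _ hτ
      have hon : orderOf (r j) ∣ n := by
        rw [orderOf_dvd_iff_pow_eq_one, ← zpow_natCast, r_zpow]
        simp
      have h1 := Nat.eq_one_of_dvd_coprimes (Nat.prime_two.coprime_iff_not_dvd.mpr hnodd) ho hon
      exact hτ1 (Subtype.ext (orderOf_eq_one_iff.mp h1))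
    · exact ⟨j, rfl⟩
  have himgP : ∀ z : ↥H, (z : G) ∈ P → f z = 1 ∨ f z = sr i := by
    intro z hz
    by_cases h1 : f z = 1
    · exact Or.inl h1
    · exact Or.inr (congrArg Subtype.val (hτu ⟨f z, ⟨z, hz, rfl⟩⟩ (fun h' => h1 (congrArg Subtype.val h'))))
  obtain ⟨h₀, hh₀⟩ := hf (r 1)
  set σ : MulAut G := MulAut.conj ((h₀ : G) * y) with hσ
  have hσP : σ • P = MulAut.conj (h₀ : G) • P := by rw [hσ, map_mul, mul_smul, hyN]
  have hmemσ : ∀ z : G, z ∈ σ • P ↔ (h₀ : G)⁻¹ * z * h₀ ∈ P := fun z => by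
    rw [hσP, Subgroup.mem_pointwise_smul_iff_inv_smul_mem, ← map_inv, MulAut.smul_def, MulAut.conj_apply, inv_inv]
  have hσH : σ • P ≤ H := fun z hz => by
    have := H.mul_mem (H.mul_mem h₀.2 (hPH ((hmemσ z).mp hz))) (H.inv_mem h₀.2)
    simpa [mul_assoc] using this
  -- `P ⊓ σ P = Q`
  have hinf : P ⊓ σ • P = Q := by
    refine le_antisymm (fun z hz => ?_) (le_inf hQP fun z hz => (hmemσ z).mpr (hQP ?_))
    · obtain ⟨hz1, hz2⟩ := hz
      refine ⟨⟨z, hPH hz1⟩, ?_, rfl⟩
      have h2' := himgP (h₀⁻¹ * ⟨z, hPH hz1⟩ * h₀) ((hmemσ z).mp hz2)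
      rw [map_mul, map_mul, map_inv, hh₀, inv_r] at h2'
      rw [SetLike.mem_coe, ← hfker, MonoidHom.mem_ker]
      rcases himgP ⟨z, hPH hz1⟩ hz1 with h' | h'
      · exact h'
      · exfalso
        rw [h', r_mul_sr, sr_mul_r] at h2'
        rcases h2' with h'' | h''
        · rw [← r_zero] at h''; cases h''
        · have h3 : ((2 : ℕ) : ZMod n) = 0 := by
            push_cast
            linear_combination DihedralGroup.sr.inj h''
          rw [ZMod.natCast_eq_zero_iff] at h3
          have := Nat.le_of_dvd two_pos h3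
          omega
    · obtain ⟨w, hw, rfl⟩ := hz
      exact ⟨h₀⁻¹ * w * h₀, by simpa using (inferInstance : Z.Normal).conj_mem w hw h₀⁻¹, rfl⟩
  have hσcard : Nat.card ↥(σ • P) = 2 * 2 ^ b := by
    rw [← hPcard]; exact (Nat.card_congr (Subgroup.equivSMul σ P).toEquiv).symm
  have hidx : (P ⊓ σ • P).relIndex (σ • P) = 2 := by
    have hle : Q ≤ σ • P := hinf ▸ inf_le_right
    have h1 := (Q.subgroupOf (σ • P)).index_mul_card
    rw [Nat.card_congr (Subgroup.subgroupOfEquivOfLe hle).toEquiv, hQcard, hσcard] at h1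
    rw [hinf]
    exact Nat.eq_of_mul_eq_mul_right (pow_pos two_pos b) h1
  have hN : ((P ⊓ σ • P).subgroupOf (σ • P)).Normal := Subgroup.normal_of_index_eq_two hidx
  -- `H` is generated by `P` and `σ P`
  have hsup : P ⊔ σ • P = H := by
    refine le_antisymm (sup_le hPH hσH) fun g hg => ?_
    set K := (P ⊔ σ • P).subgroupOf H
    obtain ⟨z, hz, hzτ⟩ := hτ
    have hr2 : r (2 : ZMod n) ∈ K.map f := by
      have h1 : z ∈ K := Subgroup.mem_subgroupOf.mpr (Subgroup.mem_sup_left hz)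
      have h2 : h₀ * z * h₀⁻¹ ∈ K := Subgroup.mem_subgroupOf.mpr (Subgroup.mem_sup_right ((hmemσ _).mpr (by
        rw [show (h₀ : G)⁻¹ * ((h₀ * z * h₀⁻¹ : ↥H) : G) * h₀ = z by
          rw [Subgroup.coe_mul, Subgroup.coe_mul, Subgroup.coe_inv]; group]
        exact hz)))
      refine ⟨h₀ * z * h₀⁻¹ * z, K.mul_mem h2 h1, ?_⟩
      rw [map_mul, map_mul, map_mul, map_inv, hh₀, hzτ, inv_r, r_mul_sr, sr_mul_r, sr_mul_sr]
      congr 1
      ring
    have htop : K.map f = ⊤ := by
      refine eq_top_iff.mpr fun g _ => ?_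
      have hrot : ∀ j, r j ∈ K.map f := fun j => by
        obtain ⟨u, hu⟩ := ((ZMod.isUnit_iff_coprime 2 n).mpr (Nat.prime_two.coprime_iff_not_dvd.mpr hnodd)).exists_right_inv
        have h' := Subgroup.zpow_mem _ hr2 ((u * j : ZMod n).cast : ℤ)
        rwa [r_zpow, ZMod.intCast_zmod_cast, ← mul_assoc, show (2 : ZMod n) * u = 1 by exact_mod_cast hu, one_mul] at h'
      rcases g with j | j
      · exact hrot j
      · have h' := (K.map f).mul_mem (show sr i ∈ K.map f from ⟨z, Subgroup.mem_subgroupOf.mpr (Subgroup.mem_sup_left hz), hzτ⟩) (hrot (j - i))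
        rwa [sr_mul_r, add_sub_cancel] at h'
    have hKtop : K = ⊤ := by
      have h' := Subgroup.comap_map_eq f K
      rw [htop, Subgroup.comap_top, hfker, sup_eq_left.mpr] at h'
      · exact h'.symm
      · intro w hw
        exact Subgroup.mem_subgroupOf.mpr (Subgroup.mem_sup_left (hZP hw))
    exact (hKtop ▸ Subgroup.mem_top (⟨g, hg⟩ : ↥H) : (⟨g, hg⟩ : ↥H) ∈ K)
  -- the chain
  obtain ⟨t, x, ht1, hch, hPt, hW, hsh⟩ := exists_chain Nat.prime_two hN hidx (fun N hNP hPN hσN => by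
    have hσPN : σ • P ≤ Subgroup.normalizer (N : Set G) := by
      rw [← hσN]
      rintro _ ⟨u, hu, rfl⟩
      show σ u ∈ Subgroup.normalizer ((σ • N : Subgroup G) : Set G)
      rw [Subgroup.mem_normalizer_iff]
      intro w
      rw [Subgroup.mem_pointwise_smul_iff_inv_smul_mem, Subgroup.mem_pointwise_smul_iff_inv_smul_mem, MulAut.smul_def,
        MulAut.smul_def, map_mul, map_mul, map_inv σ⁻¹ (σ u), MulAut.inv_apply_self]
      exact Subgroup.mem_normalizer_iff.mp (hPN hu) _
    have hHN : H ≤ Subgroup.normalizer (N : Set G) := hsup ▸ sup_le hPN hσPN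
    refine hyQ N hNP (Subgroup.normal_subgroupOf_of_le_normalizer hHN) ?_
    have h' : MulAut.conj (h₀ : G) • N = N := by
      refine Subgroup.eq_of_le_of_card_ge ?_ (le_of_eq (Nat.card_congr (Subgroup.equivSMul _ N).toEquiv))
      rintro _ ⟨w, hw, rfl⟩
      exact (Subgroup.mem_normalizer_iff.mp (hHN h₀.2) w).mp hw
    rw [hσ, map_mul, mul_smul] at hσN
    exact MulAction.injective (MulAut.conj (h₀ : G)) (hσN.trans h'.symm))
  have hb1 : 1 ≤ b := by
    by_contra hb0
    rw [show b = 0 by omega, pow_zero, Subgroup.card_eq_one] at hb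
    exact hO hb
  have htb : t = b + 1 := Nat.pow_right_injective le_rfl (hPt.symm.trans (hPcard.trans (pow_succ' 2 b).symm))
  have hWσ : ∀ k, ∀ z ∈ W x 0 k, σ z ∈ W x 1 k := by
    intro k
    have hle : W x 0 k ≤ (W x 1 k).comap σ.toMonoidHom := by
      rw [W, Subgroup.closure_le]
      rintro _ ⟨j, hj1, hj2, rfl⟩
      show σ (x j) ∈ W x 1 k
      rw [hsh]
      exact mem_W (by omega) (by omega)
    exact fun z hz => hle hz
  have hWt : σ • P = W x 1 t := by
    refine Subgroup.eq_of_le_of_card_ge ?_ ?_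
    · rintro _ ⟨z, hz, rfl⟩; exact hWσ t z (hW.symm ▸ hz)
    · rw [hch.card 1 t le_rfl, hσcard, ← hPcard, hPt]
  have hWQ : W x 1 (t - 1) = Q := by
    refine Subgroup.eq_of_le_of_card_ge ?_ ?_
    · rw [← hinf]
      exact le_inf ((W_mono (by omega) (by omega)).trans hW.le) ((W_mono le_rfl (by omega)).trans hWt.ge)
    · rw [hQcard, hch.card _ _ (by omega), htb, Nat.add_sub_cancel]
  have hgenW : W x 0 (t + 1) = H := by
    refine le_antisymm ?_ ?_
    · rw [W, Subgroup.closure_le]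
      rintro _ ⟨j, hj1, hj2, rfl⟩
      rw [← hsup]
      by_cases hjt : j < t
      · exact Subgroup.mem_sup_left (hW ▸ mem_W hj1 (by omega))
      · exact Subgroup.mem_sup_right (hWt ▸ mem_W (by omega) (by push_cast at hj2; omega))
    · rw [← hsup, hWt, ← hW]
      exact sup_le (W_mono le_rfl (by omega)) (W_mono (by omega) (by push_cast; omega))
  have hQn : H ≤ Subgroup.normalizer (Q : Set G) := fun g hg => by
    rw [Subgroup.mem_normalizer_iff_map_conj_eq]
    refine Subgroup.eq_of_le_of_card_ge ?_ (le_of_eq (Subgroup.card_map_of_injective (MulAut.conj g).injective).symm)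
    rintro _ ⟨_, ⟨z, hz, rfl⟩, rfl⟩
    exact ⟨⟨g, hg⟩ * z * ⟨g, hg⟩⁻¹, (inferInstance : Z.Normal).conj_mem z hz _, rfl⟩
  exact ⟨h₀, t, x, h₀.2, by omega, hch, hW, hgenW, hWQ, fun j => by
    rw [← hsh j]
    show _ = (h₀ : G) * y * x j * ((h₀ : G) * y)⁻¹
    group⟩

/-- An element of an interval of commuting involutions, split off at one of its ends. -/
theorem split_left {x : ℤ → G} {i : ℤ} {k : ℕ}
    (hc : ∀ j l : ℤ, i ≤ j → j < i + (k + 1) → i ≤ l → l < i + (k + 1) → Commute (x j) (x l))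
    (hsq : x i * x i = 1) {w : G} (hw : w ∈ W x i (k + 1)) :
    w ∈ W x (i + 1) k ∨ x i * w ∈ W x (i + 1) k := by
  set A := W x (i + 1) k
  have hxA : ∀ a ∈ A, Commute (x i) a := fun a ha =>
    commute_W (fun j hj1 hj2 => hc i j le_rfl (by omega) (by omega) (by omega)) ha
  rw [W] at hw
  induction hw using Subgroup.closure_induction with
  | mem z hz =>
    obtain ⟨j, hj1, hj2, rfl⟩ := hz
    rcases eq_or_lt_of_le hj1 with rfl | hlt
    · exact Or.inr (hsq ▸ A.one_mem)
    · exact Or.inl (mem_W (by omega) (by push_cast at hj2; omega))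
  | one => exact Or.inl A.one_mem
  | mul u v _ _ hu hv =>
    rcases hu with hu | hu <;> rcases hv with hv | hv
    · exact Or.inl (A.mul_mem hu hv)
    · refine Or.inr ?_
      rw [← mul_assoc, (hxA u hu).eq, mul_assoc]
      exact A.mul_mem hu hv
    · refine Or.inr ?_
      rw [← mul_assoc]
      exact A.mul_mem hu hv
    · refine Or.inl ?_
      have e : u * v = x i * u * (x i * v) := by
        have h1 := (hxA _ hu).eq
        have h2 : x i * (x i * u) = u := by rw [← mul_assoc, hsq, one_mul]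
        rw [h2] at h1
        calc u * v = x i * u * x i * v := by rw [← h1]
          _ = _ := by rw [mul_assoc]
      rw [e]
      exact A.mul_mem hu hv
  | inv u _ hu =>
    rcases hu with hu | hu
    · exact Or.inl (A.inv_mem hu)
    · refine Or.inr ?_
      have h1 : x i * (x i * u) = (x i * u) * x i := (hxA _ hu).eq
      have h2 : x i * u⁻¹ = (x i * u)⁻¹ := by
        rw [mul_inv_rev, inv_eq_of_mul_eq_one_right hsq]
        rw [← mul_assoc, hsq, one_mul] at h1
        calc x i * u⁻¹ = x i * ((x i * u) * x i)⁻¹ := by rw [← h1]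
          _ = u⁻¹ * x i := by
            rw [mul_inv_rev, mul_inv_rev, inv_eq_of_mul_eq_one_right hsq]
            rw [← mul_assoc, hsq, one_mul]
      rw [h2]
      exact A.inv_mem hu

theorem comm_mul_of_commute {u a w : G} (h : Commute u w) : ⁅u, a * w⁆ = ⁅u, a⁆ := by
  rw [commutatorElement_def, commutatorElement_def]
  calc u * (a * w) * u⁻¹ * (a * w)⁻¹ = u * a * (w * u⁻¹) * w⁻¹ * a⁻¹ := by group
    _ = u * a * (u⁻¹ * w) * w⁻¹ * a⁻¹ := by rw [(h.inv_left).eq]
    _ = _ := by group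

/-- `{v ∈ P : [P, v] ⊆ {1, z}}` is small when `z` is the product of the two basic central elements. -/
theorem mem_center_of_six {x : ℤ → G} (hch : Chain 2 6 x) (hsq : ∀ i, x i * x i = 1)
    (hnear : ∀ i j : ℤ, (i - j).natAbs < 4 → Commute (x i) (x j))
    (hc0 : ⁅x 0, x 4⁆ = x 2) (hc1 : ⁅x 1, x 5⁆ = x 3) {z : G} (hz2 : z ≠ x 2) (hz3 : z ≠ x 3)
    {v : G} (hv : v ∈ W x 0 6) (hvz : ∀ u ∈ W x 0 6, ⁅u, v⁆ = 1 ∨ ⁅u, v⁆ = z) :
    v ∈ W x 2 2 := by
  have hne : ∀ i : ℤ, x i ≠ 1 := fun i e => by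
    have h2 := hch.orderOf_eq (by norm_num) i
    rw [e, orderOf_one] at h2
    norm_num at h2
  -- `v` commutes with `x 1`
  have key : ∀ {u a w : G}, u ∈ W x 0 6 → v = a * w → Commute u w → ⁅u, a⁆ ≠ 1 → ⁅u, a⁆ ≠ z → False := by
    intro u a w hu hva huw h1 h2
    have h3 := hvz u hu
    rw [hva, comm_mul_of_commute huw] at h3
    exact h3.elim h1 h2
  have hinv : ∀ i j : ℤ, ⁅x j, x i⁆ = ⁅x i, x j⁆⁻¹ := fun i j => (commutatorElement_inv _ _).symm
  have hxinv : ∀ i, (x i)⁻¹ = x i := fun i => inv_eq_of_mul_eq_one_right (hsq i)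
  -- step 1 : `v ∈ W x 0 5`
  have h1 : v ∈ W x 0 5 := by
    set A := W x 0 5
    by_contra hvA
    have hle : A ≤ W x 0 6 := W_mono le_rfl (by norm_num)
    have hidx : (A.subgroupOf (W x 0 6)).index = 2 := by
      have := (A.subgroupOf (W x 0 6)).index_mul_card
      rw [Nat.card_congr (Subgroup.subgroupOfEquivOfLe hle).toEquiv, hch.card 0 6 le_rfl,
        hch.card 0 5 (by norm_num)] at this
      omega
    have h5 : x 5 ∉ A := hch.not_mem_right (i := 0) (k := 5) le_rfl
    have h5P : x 5 ∈ W x 0 6 := mem_W (by norm_num) (by norm_num)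
    have hmem : (⟨x 5, h5P⟩ * ⟨v, hv⟩ : ↥(W x 0 6)) ∈ A.subgroupOf (W x 0 6) := by
      rw [Subgroup.mul_mem_iff_of_index_two hidx]
      simp only [Subgroup.mem_subgroupOf]
      exact iff_of_false h5 hvA
    refine key (u := x 1) (a := x 5) (w := x 5 * v) (mem_W (by norm_num) (by norm_num))
      (by rw [← mul_assoc, hsq, one_mul]) ?_ (hc1 ▸ hne 3) (hc1 ▸ hz3.symm)
    exact commute_W (fun j hj1 hj2 => hnear _ _ (by omega)) (i := 0) (k := 5) hmem
  -- step 2 : `v ∈ W x 1 4`
  have h2 : v ∈ W x 1 4 := by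
    set A := W x 1 4
    by_contra hvA
    have hle : A ≤ W x 0 5 := W_mono (by norm_num) (by norm_num)
    have hidx : (A.subgroupOf (W x 0 5)).index = 2 := by
      have := (A.subgroupOf (W x 0 5)).index_mul_card
      rw [Nat.card_congr (Subgroup.subgroupOfEquivOfLe hle).toEquiv, hch.card 0 5 (by norm_num),
        hch.card 1 4 (by norm_num)] at this
      omega
    have h0 : x 0 ∉ A := hch.not_mem_left (i := 0) (k := 4) (by norm_num)
    have h0P : x 0 ∈ W x 0 5 := mem_W le_rfl (by norm_num)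
    have hmem : (⟨x 0, h0P⟩ * ⟨v, h1⟩ : ↥(W x 0 5)) ∈ A.subgroupOf (W x 0 5) := by
      rw [Subgroup.mul_mem_iff_of_index_two hidx]
      simp only [Subgroup.mem_subgroupOf]
      exact iff_of_false h0 hvA
    have hc : ⁅x 4, x 0⁆ = x 2 := by rw [hinv 0 4, hc0, hxinv]
    refine key (u := x 4) (a := x 0) (w := x 0 * v) (mem_W (by norm_num) (by norm_num))
      (by rw [← mul_assoc, hsq, one_mul]) ?_ (hc ▸ hne 2) (hc ▸ hz2.symm)
    exact commute_W (fun j hj1 hj2 => hnear _ _ (by omega)) (i := 1) (k := 4) hmem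
  -- step 3 : `v ∈ W x 1 3`
  have h3 : v ∈ W x 1 3 := by
    set A := W x 1 3
    by_contra hvA
    have hle : A ≤ W x 1 4 := W_mono le_rfl (by norm_num)
    have hidx : (A.subgroupOf (W x 1 4)).index = 2 := by
      have := (A.subgroupOf (W x 1 4)).index_mul_card
      rw [Nat.card_congr (Subgroup.subgroupOfEquivOfLe hle).toEquiv, hch.card 1 4 (by norm_num),
        hch.card 1 3 (by norm_num)] at this
      omega
    have h4 : x 4 ∉ A := hch.not_mem_right (i := 1) (k := 3) (by norm_num)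
    have h4P : x 4 ∈ W x 1 4 := mem_W (by norm_num) (by norm_num)
    have hmem : (⟨x 4, h4P⟩ * ⟨v, h2⟩ : ↥(W x 1 4)) ∈ A.subgroupOf (W x 1 4) := by
      rw [Subgroup.mul_mem_iff_of_index_two hidx]
      simp only [Subgroup.mem_subgroupOf]
      exact iff_of_false h4 hvA
    refine key (u := x 0) (a := x 4) (w := x 4 * v) (mem_W le_rfl (by norm_num))
      (by rw [← mul_assoc, hsq, one_mul]) ?_ (hc0 ▸ hne 2) (hc0 ▸ hz2.symm)
    exact commute_W (fun j hj1 hj2 => hnear _ _ (by omega)) (i := 1) (k := 3) hmem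
  rcases split_left (i := 1) (k := 2) (fun j l _ _ _ _ => hnear j l (by omega)) (hsq 1) h3 with h | h
  · exact h
  · exfalso
    have hc : ⁅x 5, x 1⁆ = x 3 := by rw [hinv 1 5, hc1, hxinv]
    refine key (u := x 5) (a := x 1) (w := x 1 * v) (mem_W (by norm_num) (by norm_num))
      (by rw [← mul_assoc, hsq, one_mul]) ?_ (hc ▸ hne 3) (hc ▸ hz3.symm)
    exact commute_W (fun j hj1 hj2 => hnear _ _ (by omega)) h

/-- No outer automorphism of odd order. -/
theorem odd_aut_false {H P : Subgroup G} {y : G} {h : G} {t : ℕ} {x : ℤ → G}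
    (hch : Chain 2 t x) (ht : 2 ≤ t) (hW : W x 0 t = P) (hgen : W x 0 (t + 1) = H)
    (hQ : W x 1 (t - 1) = (Cfsg.pCore 2 ↥H).map H.subtype) (hh : h ∈ H)
    (hsh : ∀ i : ℤ, h * (y * x i * y⁻¹) * h⁻¹ = x (i + 1))
    (hy : MulAut.conj y • P = P) (hodd : Odd (orderOf y))
    (hchar : Subgroup.centralizer (Cfsg.pCore 2 ↥H : Set ↥H) ≤ Cfsg.pCore 2 ↥H)
    (hcore : ∀ z : G, z ∈ H → (∀ g ∈ H, Commute z g) → (∀ g ∈ H, Commute z (y⁻¹ * g * y)) → z = 1) :
    False := by
  classical
  have hsq : ∀ i, x i * x i = 1 := fun i => by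
    have h2 := pow_orderOf_eq_one (x i)
    rwa [hch.orderOf_eq (by omega) i, pow_two] at h2
  have hne : ∀ i : ℤ, x i ≠ 1 := fun i e => by
    have h2 := hch.orderOf_eq (by omega) i
    rw [e, orderOf_one] at h2
    omega
  have hyP : ∀ z ∈ P, y * z * y⁻¹ ∈ P := fun z hz => by
    rw [← hy]
    exact Subgroup.smul_mem_pointwise_smul z _ _ hz
  -- the first noncommuting distance
  have hQP : (Cfsg.pCore 2 ↥H).map H.subtype ≤ P := by
    rw [← hQ, ← hW]; exact W_mono (by norm_num) (by omega)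
  have hex : ∃ d : ℕ, ¬ Commute (x 0) (x d) ∧ d < t := by
    by_contra hc
    push Not at hc
    have h0H : x 0 ∈ H := hgen ▸ mem_W le_rfl (by omega)
    have hmem : (⟨x 0, h0H⟩ : ↥H) ∈ Cfsg.pCore 2 ↥H := hchar fun u hu => by
      have huW : (u : G) ∈ W x 1 (t - 1) := hQ ▸ ⟨u, hu, rfl⟩
      refine Subtype.ext (commute_W (y := x 0) (fun j hj1 hj2 => ?_) huW).eq.symm
      obtain ⟨j', rfl⟩ := Int.eq_ofNat_of_zero_le (show 0 ≤ j by omega)
      by_contra hj
      exact absurd (hc j' hj) (by omega)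
    refine hch.not_mem_left (i := 0) (k := t - 1) (by omega) ?_
    rw [zero_add, hQ]
    exact ⟨_, hmem, rfl⟩
  obtain ⟨s, hs, hst, hmin⟩ : ∃ s : ℕ, ¬ Commute (x 0) (x s) ∧ s < t ∧
      ∀ d : ℕ, d < s → Commute (x 0) (x d) := by
    refine ⟨Nat.find hex, (Nat.find_spec hex).1, (Nat.find_spec hex).2, fun d hd => ?_⟩
    by_contra hc
    exact Nat.find_min hex hd ⟨hc, lt_trans hd (Nat.find_spec hex).2⟩
  have hnear : ∀ i j : ℤ, (i - j).natAbs < s → Commute (x i) (x j) := by
    intro i j hij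
    rcases le_total i j with hle | hle
    · rw [show j = i + ((i - j).natAbs : ℤ) by omega, hch.shift]
      exact hmin _ hij
    · rw [show i = j + ((i - j).natAbs : ℤ) by omega]
      exact ((hch.shift _ _).mpr (hmin _ hij)).symm
  -- the centres of `H` and `Hʸ` meet trivially
  have hbound : 2 * s ≤ t + 2 := by
    by_contra hlt
    set z := x ((t - s + 1 : ℕ) : ℤ)
    have hcH : ∀ g ∈ H, Commute z g := fun g hg =>
      commute_W (fun j hj1 hj2 => hnear _ _ (by omega)) (hgen ▸ hg)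
    refine hne _ (hcore z (hgen ▸ mem_W (by omega) (by omega)) hcH fun g hg => ?_)
    have hg' : h * g * h⁻¹ ∈ W x 0 (t + 1) := hgen ▸ H.mul_mem (H.mul_mem hh hg) (H.inv_mem hh)
    have hle : W x 0 (t + 1) ≤ (W x (-1) (t + 1)).comap (MulAut.conj (h * y)⁻¹).toMonoidHom := by
      rw [W, Subgroup.closure_le]
      rintro _ ⟨j, hj1, hj2, rfl⟩
      show (h * y)⁻¹ * x j * ((h * y)⁻¹)⁻¹ ∈ W x (-1) (t + 1)
      rw [show x j = h * (y * x (j - 1) * y⁻¹) * h⁻¹ by rw [hsh, sub_add_cancel],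
        show (h * y)⁻¹ * (h * (y * x (j - 1) * y⁻¹) * h⁻¹) * ((h * y)⁻¹)⁻¹ = x (j - 1) by group]
      exact mem_W (by omega) (by omega)
    have hmem : (h * y)⁻¹ * (h * g * h⁻¹) * ((h * y)⁻¹)⁻¹ ∈ W x (-1) (t + 1) := hle hg'
    rw [show (h * y)⁻¹ * (h * g * h⁻¹) * ((h * y)⁻¹)⁻¹ = y⁻¹ * g * y by group] at hmem
    exact commute_W (fun j hj1 hj2 => hnear _ _ (by omega)) hmem
  have h32 := hch.two_mul_le hs hmin hst
  have hs1 : 1 ≤ s := Nat.pos_of_ne_zero fun e => hs (by rw [e]; exact Commute.refl _)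
  -- an element of odd order fixing `y² z` fixes `z`
  have hodd2 : ∀ z : G, y * (y * z * y⁻¹) * y⁻¹ = z → y * z * y⁻¹ = z := by
    intro z hz
    obtain ⟨m, hm⟩ := hodd
    have h2 : Commute (y ^ 2) z := by
      show y ^ 2 * z = z * y ^ 2
      conv_rhs => rw [← hz]
      rw [pow_two]; group
    have hy' : (y ^ 2) ^ (m + 1) = y := by
      rw [← pow_mul, show 2 * (m + 1) = orderOf y + 1 by omega, pow_succ, pow_orderOf_eq_one, one_mul]
    exact mul_inv_eq_iff_eq_mul.mpr (hy' ▸ h2.pow_left (m + 1)).eq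
  have hcase : (t = s + 1) ∨ (s = 4 ∧ t = 6) := by omega
  rcases hcase with rfl | ⟨hs4, rfl⟩
  · -- two elementary abelian subgroups of index two
    set A := W x 0 s
    set B := W x 1 s
    have hBQ : B = (Cfsg.pCore 2 ↥H).map H.subtype := by rw [← hQ, Nat.add_sub_cancel]
    have hBn : H ≤ Subgroup.normalizer (B : Set G) := fun g hg => by
      rw [hBQ, Subgroup.mem_normalizer_iff_map_conj_eq]
      refine Subgroup.eq_of_le_of_card_ge ?_ (le_of_eq (Subgroup.card_map_of_injective (MulAut.conj g).injective).symm)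
      rintro _ ⟨_, ⟨u, hu, rfl⟩, rfl⟩
      exact ⟨⟨g, hg⟩ * u * ⟨g, hg⟩⁻¹, (inferInstance : (Cfsg.pCore 2 ↥H).Normal).conj_mem u hu _, rfl⟩
    have hcB : ∀ u ∈ B, ∀ v ∈ B, Commute u v := fun u hu v hv =>
      commute_W (fun j hj1 hj2 => (commute_W (y := x j)
        (fun l hl1 hl2 => hnear _ _ (by omega)) hu).symm) hv
    have hBsq : ∀ u ∈ B, u * u = 1 := fun u hu => by
      rw [show B = W x 1 s from rfl, W] at hu
      induction hu using Subgroup.closure_induction with
      | mem z hz => obtain ⟨j, -, -, rfl⟩ := hz; exact hsq j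
      | one => exact one_mul 1
      | mul u v hu' hv' hu2 hv2 =>
        have hcm : Commute u v := hcB u hu' v hv'
        rw [show u * v * (u * v) = u * (v * u) * v by group, ← hcm.eq,
          show u * (u * v) * v = (u * u) * (v * v) by group, hu2, hv2, one_mul]
      | inv u _ hu2 => rw [← mul_inv_rev, hu2, inv_one]
    have hyA : ∀ a ∈ A, y * a * y⁻¹ ∈ B := by
      have hle : A ≤ B.comap (MulAut.conj (h * y)).toMonoidHom := by
        rw [show A = W x 0 s from rfl, W, Subgroup.closure_le]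
        rintro _ ⟨j, hj1, hj2, rfl⟩
        show h * y * x j * (h * y)⁻¹ ∈ B
        rw [show h * y * x j * (h * y)⁻¹ = h * (y * x j * y⁻¹) * h⁻¹ by group, hsh]
        exact mem_W (by omega) (by omega)
      intro a ha
      have h1 : h * y * a * (h * y)⁻¹ ∈ B := hle ha
      rw [show h * y * a * (h * y)⁻¹ = h * (y * a * y⁻¹) * h⁻¹ by group] at h1
      exact (Subgroup.mem_normalizer_iff.mp (hBn hh) _).mpr h1
    -- every involution of `P` lies in `A` or in `B`
    have hinv : ∀ u ∈ P, u * u = 1 → u ∈ A ∨ u ∈ B := by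
      intro u hu huu
      by_contra hc
      push Not at hc
      have hBP : B ≤ P := hW ▸ W_mono (by norm_num) (by omega)
      have hidx : (B.subgroupOf P).index = 2 := by
        have := (B.subgroupOf P).index_mul_card
        rw [Nat.card_congr (Subgroup.subgroupOfEquivOfLe hBP).toEquiv, ← hW, hch.card 0 (s + 1) le_rfl,
          hch.card 1 s (by omega), pow_succ'] at this
        rw [← hW]
        exact Nat.eq_of_mul_eq_mul_right (pow_pos two_pos s) this
      have h0B : x 0 ∉ B := by simpa using hch.not_mem_left (i := 0) (k := s) le_rfl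
      have h0P : x 0 ∈ P := hW ▸ mem_W le_rfl (by omega)
      have hmem : x 0 * u ∈ B := by
        have : (⟨x 0, h0P⟩ * ⟨u, hu⟩ : ↥P) ∈ B.subgroupOf P := by
          rw [Subgroup.mul_mem_iff_of_index_two hidx]
          simp only [Subgroup.mem_subgroupOf]
          exact iff_of_false h0B hc.2
        exact this
      set w := x 0 * u
      have hu' : u = x 0 * w := by rw [← mul_assoc, hsq, one_mul]
      have hcw : Commute (x 0) w := by
        show x 0 * w = w * x 0
        have h1 : (x 0 * w) * (x 0 * w) = 1 := hu' ▸ huu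
        have h2 := hBsq w hmem
        calc x 0 * w = (x 0 * w)⁻¹ := (inv_eq_of_mul_eq_one_right h1).symm
          _ = w * x 0 := by
            rw [mul_inv_rev, inv_eq_of_mul_eq_one_right (hsq 0), inv_eq_of_mul_eq_one_right h2]
      refine hc.1 (hu' ▸ A.mul_mem (mem_W le_rfl (by omega)) ?_)
      have hmem' : w ∈ W x 1 (s - 1 + 1) := by rw [show s - 1 + 1 = s by omega]; exact hmem
      have := hch.mem_of_commute (i := 1) (k := s - 1) (u := x 0) (by omega)
        (fun j hj1 hj2 => hnear _ _ (by omega))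
        (by rw [show (1 : ℤ) + ((s - 1 : ℕ) : ℤ) = (s : ℤ) by omega]; exact hs) hmem' hcw
      exact W_mono (by omega) (by omega) this
    set By := B.map (MulAut.conj y).toMonoidHom
    have hyB : ∀ b ∈ B, y * b * y⁻¹ ∈ A ∨ y * b * y⁻¹ ∈ B := fun b hb => hinv _
      (hyP b (hW ▸ W_mono (by norm_num) (by omega) hb))
      (by rw [show y * b * y⁻¹ * (y * b * y⁻¹) = y * (b * b) * y⁻¹ by group, hBsq b hb, mul_one, mul_inv_cancel])
    have hcase' : By ≤ A ∨ By ≤ B := by
      by_contra hc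
      push Not at hc
      obtain ⟨_, ⟨a, ha, rfl⟩, haA⟩ := SetLike.not_le_iff_exists.mp hc.1
      obtain ⟨_, ⟨b, hb, rfl⟩, hbB⟩ := SetLike.not_le_iff_exists.mp hc.2
      have haB := (hyB a ha).resolve_left haA
      have hbA := (hyB b hb).resolve_right hbB
      rcases hyB (a * b) (B.mul_mem ha hb) with h1 | h1
      · refine haA ?_
        show y * a * y⁻¹ ∈ A
        rw [show y * a * y⁻¹ = y * (a * b) * y⁻¹ * (y * b * y⁻¹)⁻¹ by group]
        exact A.mul_mem h1 (A.inv_mem hbA)
      · refine hbB ?_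
        show y * b * y⁻¹ ∈ B
        rw [show y * b * y⁻¹ = (y * a * y⁻¹)⁻¹ * (y * (a * b) * y⁻¹) by group]
        exact B.mul_mem (B.inv_mem haB) h1
    have h0 : x 0 ∉ B := by simpa using hch.not_mem_left (i := 0) (k := s) le_rfl
    have h0A : x 0 ∈ A := mem_W le_rfl (by omega)
    have hcardAB : Nat.card A = Nat.card B := by rw [hch.card 0 s (by omega), hch.card 1 s (by omega)]
    have hAy : A.map (MulAut.conj y).toMonoidHom = B := Subgroup.eq_of_le_of_card_ge
      (by rintro _ ⟨a, ha, rfl⟩; exact hyA a ha)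
      (le_of_eq ((Subgroup.card_map_of_injective (MulAut.conj y).injective).trans hcardAB).symm)
    have hAB : By ≤ A := by
      refine hcase'.resolve_right fun hB => h0 ?_
      have h1 : By = B := Subgroup.eq_of_le_of_card_ge hB
        (le_of_eq (Subgroup.card_map_of_injective (MulAut.conj y).injective).symm)
      exact (Subgroup.map_injective (f := (MulAut.conj y).toMonoidHom) (MulAut.conj y).injective
        (h1.trans hAy.symm)) ▸ h0A
    have hnA : ∀ a ∈ A, y ^ 2 * a * (y ^ 2)⁻¹ ∈ A := fun a ha => by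
      rw [show y ^ 2 * a * (y ^ 2)⁻¹ = y * (y * a * y⁻¹) * y⁻¹ by rw [pow_two]; group]
      exact hAB ⟨_, hyA a ha, rfl⟩
    have hny : y ∈ Subgroup.normalizer (A : Set G) := by
      obtain ⟨m, hm⟩ := hodd
      have h2 : y ^ 2 ∈ Subgroup.normalizer (A : Set G) := by
        rw [Subgroup.mem_normalizer_iff_map_conj_eq]
        refine Subgroup.eq_of_le_of_card_ge ?_ (le_of_eq (Subgroup.card_map_of_injective (MulAut.conj _).injective).symm)
        rintro _ ⟨a, ha, rfl⟩
        exact hnA a ha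
      have := pow_mem h2 (m + 1)
      rwa [← pow_mul, show 2 * (m + 1) = orderOf y + 1 by omega, pow_succ, pow_orderOf_eq_one, one_mul] at this
    exact h0 (hAy ▸ (Subgroup.mem_normalizer_iff_map_conj_eq.mp hny).symm ▸ h0A)
  · -- the group of order `2 ^ 6`
    have hc0 : ⁅x 0, x 4⁆ = x 2 := by
      obtain ⟨ha, hb⟩ := hch.commutator_mem_both hs hmin hst
      rw [hs4] at ha hb
      have hmem : ⁅x 0, x 4⁆ ∈ W x 1 (1 + 1) ⊓ W x (1 + 1) 2 := Subgroup.mem_inf.mpr ⟨hb, ha⟩
      rw [hch.inf_eq (by norm_num) (by norm_num) (by norm_num)] at hmem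
      have hc : W x (1 + 1) 1 ≤ Subgroup.closure {x 2, x 2} := by
        rw [W, Subgroup.closure_le]
        rintro _ ⟨j, hj1, hj2, rfl⟩
        rw [show j = 2 by omega]
        exact Subgroup.subset_closure (Or.inl rfl)
      have hs' : ⁅x 0, x 4⁆ ≠ 1 := fun e => hs (by
        rw [hs4]; exact commutatorElement_eq_one_iff_mul_comm.mp e)
      rcases mem_pair (Commute.refl _) (hsq 2) (hsq 2) (hc hmem) with e | e | e | e
      · exact absurd e hs'
      · exact e
      · exact e
      · exact absurd (e.trans (hsq 2)) hs'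
    have hcomm : ∀ i j : ℤ, h * (y * ⁅x i, x j⁆ * y⁻¹) * h⁻¹ = ⁅x (i + 1), x (j + 1)⁆ := fun i j => by
      rw [← hsh i, ← hsh j, commutatorElement_def, commutatorElement_def]; group
    have hc1 : ⁅x 1, x 5⁆ = x 3 := by
      have := hcomm 0 4
      rw [hc0, hsh] at this
      exact this.symm
    have hn4 : ∀ i j : ℤ, (i - j).natAbs < 4 → Commute (x i) (x j) := fun i j hij => hnear i j (by omega)
    -- `y` maps `x 2` to `x 3`
    have hy23 : y * x 2 * y⁻¹ = x 3 := by
      have hcz : Commute (x 3) h := commute_W (fun j hj1 hj2 => hn4 _ _ (by omega)) (hgen ▸ hh)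
      calc y * x 2 * y⁻¹ = h⁻¹ * (h * (y * x 2 * y⁻¹) * h⁻¹) * h := by group
        _ = h⁻¹ * x 3 * h := by rw [hsh]; norm_num
        _ = x 3 := by rw [mul_assoc, hcz.eq, inv_mul_cancel_left]
    have h23 : x 2 ≠ x 3 := fun e => by
      have h3 : x 3 ∈ W x 2 1 := e ▸ mem_W le_rfl (by omega)
      exact hch.not_mem_right (i := 2) (k := 1) (by norm_num) (by simpa using h3)
    have hP : ∀ {i : ℤ}, 0 ≤ i → i < 6 → x i ∈ P := fun h0 h1 => hW ▸ mem_W h0 (by omega)
    have hcenter : ∀ {i : ℤ}, 2 ≤ i → i < 4 → ∀ u ∈ P, Commute (x i) u := fun h2 h4 u hu =>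
      commute_W (fun j hj1 hj2 => hn4 _ _ (by omega)) (hW ▸ hu)
    let Good : G → Prop := fun z => ∃ v ∈ P, (∃ u ∈ P, ⁅u, v⁆ ≠ 1) ∧ ∀ u ∈ P, ⁅u, v⁆ = 1 ∨ ⁅u, v⁆ = z
    have hgood : ∀ z, Good z → Good (y * z * y⁻¹) := by
      rintro z ⟨v, hv, ⟨u₀, hu₀, hne'⟩, hall⟩
      have hconj : ∀ u, ⁅y * u * y⁻¹, y * v * y⁻¹⁆ = y * ⁅u, v⁆ * y⁻¹ := fun u => by
        rw [commutatorElement_def, commutatorElement_def]; group
      refine ⟨_, hyP v hv, ⟨_, hyP u₀ hu₀, fun e => hne' ?_⟩, fun u hu => ?_⟩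
      · rw [hconj, mul_inv_eq_one, mul_eq_left] at e
        exact e
      · rw [← hy, Subgroup.mem_pointwise_smul_iff_inv_smul_mem, ← map_inv, MulAut.smul_def,
          MulAut.conj_apply, inv_inv] at hu
        rw [show u = y * (y⁻¹ * u * y) * y⁻¹ by group, hconj]
        rcases hall _ hu with e | e <;> rw [e]
        · left; rw [mul_one, mul_inv_cancel]
        · right; rfl
    have hgood3 : Good (x 3) := by
      refine ⟨x 1, hP (by norm_num) (by norm_num), ⟨x 5, hP (by norm_num) (by norm_num), fun e => hne 3 ?_⟩, ?_⟩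
      · rw [← hc1, ← commutatorElement_inv, e, inv_one]
      intro u hu
      set A := W x 0 5
      have hle : A ≤ P := hW ▸ W_mono le_rfl (by norm_num)
      have hA : ∀ a ∈ A, Commute (x 1) a := fun a ha =>
        commute_W (fun j hj1 hj2 => hn4 _ _ (by omega)) ha
      by_cases huA : u ∈ A
      · exact Or.inl (commutatorElement_eq_one_iff_commute.mpr (hA u huA).symm)
      right
      have hidx : (A.subgroupOf P).index = 2 := by
        have := (A.subgroupOf P).index_mul_card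
        rw [Nat.card_congr (Subgroup.subgroupOfEquivOfLe hle).toEquiv, ← hW, hch.card 0 6 le_rfl,
          hch.card 0 5 (by norm_num)] at this
        rw [← hW]
        omega
      have h5 : x 5 ∉ A := hch.not_mem_right (i := 0) (k := 5) le_rfl
      have hmem : x 5 * u ∈ A := by
        have : (⟨x 5, hP (by norm_num) (by norm_num)⟩ * ⟨u, hu⟩ : ↥P) ∈ A.subgroupOf P := by
          rw [Subgroup.mul_mem_iff_of_index_two hidx]
          simp only [Subgroup.mem_subgroupOf]
          exact iff_of_false h5 huA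
        exact this
      rw [show u = x 5 * (x 5 * u) by rw [← mul_assoc, hsq, one_mul], ← commutatorElement_inv,
        comm_mul_of_commute (hA _ hmem), hc1, inv_eq_of_mul_eq_one_right (hsq 3)]
    set w := y * x 3 * y⁻¹
    have hw : Good w := hgood _ hgood3
    have hwP : w ∈ P := hyP _ (hP (by norm_num) (by norm_num))
    have hwc : w ∈ W x 2 2 := by
      refine mem_center_of_six hch hsq hn4 hc0 hc1 (z := 1) (hne 2).symm (hne 3).symm (hW.symm ▸ hwP) fun u hu => ?_
      left
      have hu' : y⁻¹ * u * y ∈ P := by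
        have h1 : u ∈ MulAut.conj y • P := hy.symm ▸ (hW ▸ hu)
        rw [Subgroup.mem_pointwise_smul_iff_inv_smul_mem, ← map_inv, MulAut.smul_def,
          MulAut.conj_apply, inv_inv] at h1
        exact h1
      have h2 := (hcenter (i := 3) (by norm_num) (by norm_num) _ hu').eq
      refine commutatorElement_eq_one_iff_mul_comm.mpr ?_
      calc u * w = y * ((y⁻¹ * u * y) * x 3) * y⁻¹ := by simp only [w]; group
        _ = y * (x 3 * (y⁻¹ * u * y)) * y⁻¹ := by rw [h2]
        _ = w * u := by simp only [w]; group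
    have hW22 : W x 2 2 ≤ Subgroup.closure {x 2, x 3} := by
      rw [W, Subgroup.closure_le]
      rintro _ ⟨j, hj1, hj2, rfl⟩
      rcases (show j = 2 ∨ j = 3 by omega) with rfl | rfl
      · exact Subgroup.subset_closure (Or.inl rfl)
      · exact Subgroup.subset_closure (Or.inr rfl)
    rcases mem_pair (hn4 2 3 (by norm_num)) (hsq 2) (hsq 3) (hW22 hwc) with e | e | e | e
    · rw [show w = y * x 3 * y⁻¹ from rfl, mul_inv_eq_one, mul_eq_left] at e
      exact hne 3 e
    · have h1 := hodd2 (x 2) (by rw [hy23]; exact e)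
      exact h23 (h1.symm.trans hy23)
    · refine h23 ?_
      have h1 : y * x 3 * y⁻¹ = y * x 2 * y⁻¹ := e.trans hy23.symm
      exact (mul_left_cancel (mul_right_cancel h1)).symm
    · obtain ⟨v, hv, ⟨u, hu, hne'⟩, hall⟩ := hw
      have hvc : v ∈ W x 2 2 := mem_center_of_six hch hsq hn4 hc0 hc1 (z := w)
        (fun e' => hne 3 (mul_eq_left.mp (e.symm.trans e')))
        (fun e' => hne 2 (mul_eq_right.mp (e.symm.trans e'))) (hW.symm ▸ hv) (fun a ha => hall a (hW ▸ ha))
      refine hne' (commutatorElement_eq_one_iff_commute.mpr ?_)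
      exact (commute_W (y := u) (fun j hj1 hj2 => (hcenter (i := j) hj1 (by omega) u hu).symm) hvc)

end Cfsg.Agent.SimsChain
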